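import Groth.Prelude.Def_RegImm
import Groth.Agent.Synt29.QRDescent
import Groth.Agent.QRegBC.Basic
import Groth.Agent.S9273

/-! Sequences of kind `H_1` or quasi: transport and base change with flat quotient. -/

set_option autoImplicit false
set_option linter.style.haveILetI false

universe u

open TensorProduct

namespace Groth.Agent.RelQR16

/-- Kind `H_1` or quasi, for a family. -/
def SeqQ (k : RegImm.Kind) {R : Type u} [CommRing R] {n : ℕ} (v : Fin n → R) : Prop :=
  (k = .h1 ∧ CAlgX.IsH1Regular v) ∨ (k = .quasi ∧ CAlgX.IsQuasiRegular v)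

theorem seqQ_of_seq {k : RegImm.Kind} (hk : k = .h1 ∨ k = .quasi) {R : Type u} [CommRing R] (rs : List R)
    (h : k.Seq R rs) : SeqQ k rs.get := by
  rcases hk with rfl | rfl
  · exact Or.inl ⟨rfl, h⟩
  · exact Or.inr ⟨rfl, h⟩

theorem seqQ_cast {k : RegImm.Kind} {R : Type u} [CommRing R] {n m : ℕ} (e : n = m) (v : Fin m → R) (h : SeqQ k v) :
    SeqQ k fun i => v (Fin.cast e i) := by
  subst e
  exact h

theorem seq_of_seqQ {k : RegImm.Kind} {R : Type u} [CommRing R] (rs : List R) (h : SeqQ k rs.get) : k.Seq R rs := by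
  rcases h with ⟨rfl, h⟩ | ⟨rfl, h⟩
  · exact h
  · exact h

theorem seqQ_map_iff {k : RegImm.Kind} {R S : Type u} [CommRing R] [CommRing S] (φ : R → S) (rs : List R) :
    SeqQ k (rs.map φ).get ↔ SeqQ k fun i => φ (rs.get i) := by
  constructor
  · intro h
    convert seqQ_cast (List.length_map (as := rs) φ).symm _ h using 1
    funext i
    simp
  · intro h
    convert seqQ_cast (List.length_map (as := rs) φ) _ h using 1
    funext i
    simp

theorem seqQ_quasi {k : RegImm.Kind} (hk : k = .quasi) {R : Type u} [CommRing R] {n : ℕ} (v : Fin n → R)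
    (h : SeqQ k v) : CAlgX.IsQuasiRegular v := by
  subst hk
  rcases h with ⟨h', -⟩ | ⟨-, h⟩
  · exact absurd h' (by decide)
  · exact h

variable {A S : Type u} [CommRing A] [CommRing S] [Algebra A S] {c : ℕ}

theorem h1_flat [Module.Flat A S] {f : Fin c → A} (hf : CAlgX.IsH1Regular f) :
    CAlgX.IsH1Regular fun i => algebraMap A S (f i) := by
  classical
  intro u hu
  let φ : (Fin c → A) →ₗ[A] A := Fintype.linearCombination A f
  have hex : Function.Exact ((LinearMap.ker φ).subtype.lTensor S) (φ.lTensor S) :=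
    Module.Flat.lTensor_exact S (LinearMap.exact_subtype_ker_map φ)
  let e := TensorProduct.piScalarRight A S S (Fin c)
  have he : ∀ z : S ⊗[A] (Fin c → A),
      Algebra.TensorProduct.rid A S S (φ.lTensor S z) = ∑ j, e z j * algebraMap A S (f j) := by
    intro z
    induction z using TensorProduct.induction_on with
    | zero => simp
    | tmul b v =>
      rw [LinearMap.lTensor_tmul, Algebra.TensorProduct.rid_tmul]
      simp only [φ, Fintype.linearCombination_apply, smul_eq_mul, e, TensorProduct.piScalarRight_apply,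
        TensorProduct.piScalarRightHom_tmul, Algebra.smul_def, map_sum, Finset.sum_mul, map_mul]
      exact Finset.sum_congr rfl fun j _ => by ring
    | add a b ha hb => simp only [map_add, ha, hb, Pi.add_apply, add_mul, Finset.sum_add_distrib]
  obtain ⟨w, hw⟩ := (hex (e.symm u)).1 ((Algebra.TensorProduct.rid A S S).injective (by
    rw [he, LinearEquiv.apply_symm_apply, hu, map_zero]))
  rw [← e.apply_symm_apply u, ← hw]
  clear hw
  induction w using TensorProduct.induction_on with
  | zero => rw [map_zero, map_zero]; exact zero_mem _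
  | tmul b v =>
    have hv : ∑ i, v.1 i * f i = 0 := by
      have : φ v.1 = 0 := v.2
      simpa only [φ, Fintype.linearCombination_apply, smul_eq_mul] using this
    have h1 : e (LinearMap.lTensor S (LinearMap.ker φ).subtype (b ⊗ₜ v)) = b • fun i => algebraMap A S (v.1 i) := by
      funext i
      rw [LinearMap.lTensor_tmul]
      simp only [e, TensorProduct.piScalarRight_apply, TensorProduct.piScalarRightHom_tmul, Algebra.smul_def,
        Pi.smul_apply, Submodule.coe_subtype, Algebra.algebraMap_self, RingHom.id_apply]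
      simp [mul_comm, smul_eq_mul]
    rw [h1]
    exact Submodule.smul_mem _ b (S9273.relSpan_map (algebraMap A S) f _ (hf _ hv))
  | add a b ha hb => rw [map_add, map_add]; exact add_mem ha hb

theorem seqQ_flat {k : RegImm.Kind} [Module.Flat A S] {f : Fin c → A} (h : SeqQ k f) :
    SeqQ k fun i => algebraMap A S (f i) := by
  rcases h with ⟨hk, h⟩ | ⟨hk, h⟩
  · exact Or.inl ⟨hk, h1_flat h⟩
  · exact Or.inr ⟨hk, Synt29.QRDescent.qr_flat h⟩

theorem seqQ_equiv {k : RegImm.Kind} {R T : Type u} [CommRing R] [CommRing T] (e : R ≃+* T) {f : Fin c → R}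
    (h : SeqQ k f) : SeqQ k fun i => e (f i) := by
  letI := e.toRingHom.toAlgebra
  haveI : Module.Flat R T := RingHom.Flat.of_bijective (f := e.toRingHom) e.bijective
  exact seqQ_flat h

theorem seqQ_baseChange {k : RegImm.Kind} {A B : Type u} [CommRing A] [CommRing B] [Algebra A B]
    (A' : Type u) [CommRing A'] [Algebra A A'] {r : ℕ} {f : Fin r → B}
    [Module.Flat A (B ⧸ Ideal.span (Set.range f))] (h : SeqQ k f) :
    SeqQ k fun i => ((1 : A') ⊗ₜ[A] f i : A' ⊗[A] B) := by
  rcases h with ⟨hk, h⟩ | ⟨hk, h⟩
  · exact Or.inl ⟨hk, S9273.result A B A' r f inferInstance h⟩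
  · exact Or.inr ⟨hk, QRegBC.isQuasiRegular_baseChange f A' h⟩

theorem seqQ_pushout {k : RegImm.Kind} (A B A' T : Type u) [CommRing A] [CommRing B] [CommRing A'] [CommRing T]
    [Algebra A B] [Algebra A A'] [Algebra A T] [Algebra B T] [Algebra A' T] [IsScalarTower A B T]
    [IsScalarTower A A' T] [Algebra.IsPushout A A' B T] {r : ℕ} {f : Fin r → B}
    [Module.Flat A (B ⧸ Ideal.span (Set.range f))] (h : SeqQ k f) : SeqQ k fun i => algebraMap B T (f i) := by
  have h2 := seqQ_equiv (Algebra.IsPushout.equiv A A' B T).toRingEquiv (seqQ_baseChange A' h)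
  convert h2 using 1
  funext i
  exact ((Algebra.IsPushout.equiv_tmul A A' B T (1 : A') (f i)).trans (by rw [map_one, one_mul])).symm

theorem span_range_get {R : Type u} [CommRing R] (rs : List R) :
    Ideal.span (Set.range rs.get) = Ideal.ofList rs := by
  show _ = Ideal.span {y | y ∈ rs}
  congr 1
  ext y
  simp [List.mem_iff_get]

end Groth.Agent.RelQR16
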