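import Groth.Agent.RelQR16.Algebra
import Groth.Agent.CAlgOdd.H1Regular
import Groth.Agent.SyntLim.FlatStage
import Groth.Agent.LocalCrit.Flatness
import Mathlib.RingTheory.Extension.Presentation.Core
import Mathlib.RingTheory.Localization.BaseChange
import Mathlib.RingTheory.Localization.LocalizationLocalization

/-! Flatness along an `H_1`-regular sequence with flat quotient, by Noetherian approximation. -/

set_option autoImplicit false
set_option linter.style.haveILetI false
set_option linter.unusedSectionVars false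
set_option synthInstance.maxHeartbeats 400000

universe u

open TensorProduct

namespace Groth.Agent.RelQR16

/-- Base change of `H_1`-regularity when the relations become trivial. -/
theorem h1_baseChange_of_triv {A B : Type u} [CommRing A] [CommRing B] [Algebra A B]
    (A' : Type u) [CommRing A'] [Algebra A A'] {r : ℕ} (f : Fin r → B)
    [hflat : Module.Flat A (B ⧸ Ideal.span (Set.range f))] (V : Set (Fin r → B))
    (hgen : ∀ v : Fin r → B, ∑ i, v i * f i = 0 → v ∈ Submodule.span B V)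
    (hV : ∀ v ∈ V, ∑ i, v i * f i = 0)
    (htriv : ∀ v ∈ V, (fun k => ((1 : A') ⊗ₜ[A] v k : A' ⊗[A] B)) ∈ Submodule.span (A' ⊗[A] B)
      {w : Fin r → A' ⊗[A] B | ∃ i j : Fin r, w = Pi.single i ((1 : A') ⊗ₜ[A] f j) - Pi.single j ((1 : A') ⊗ₜ[A] f i)}) :
    CAlgX.IsH1Regular (fun i => ((1 : A') ⊗ₜ[A] f i : A' ⊗[A] B)) := by
  classical
  intro a ha
  let S : Submodule B (Fin r → B) := Submodule.span B V
  let Φ : (Fin r → B) →ₗ[B] B := Fintype.linearCombination B f
  have hΦ : ∀ v, Φ v = ∑ i, v i * f i := fun v => by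
    simp only [Φ, Fintype.linearCombination_apply, smul_eq_mul]
  let I : Ideal B := Ideal.span (Set.range f)
  have hrange : LinearMap.range Φ = I := Fintype.range_linearCombination B f
  let g : (Fin r → B) →ₗ[A] I :=
    (Φ.codRestrict I (fun v => hrange ▸ LinearMap.mem_range_self Φ v)).restrictScalars A
  have hgsurj : Function.Surjective g := fun y => by
    have hy : (y : B) ∈ LinearMap.range Φ := by rw [hrange]; exact y.2
    obtain ⟨v, hv⟩ := hy
    exact ⟨v, Subtype.ext hv⟩
  let s : S →ₗ[A] (Fin r → B) := S.subtype.restrictScalars A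
  have hex : Function.Exact s g := by
    intro v
    constructor
    · intro hv
      have h1 : Φ v = 0 := congrArg Subtype.val hv
      rw [hΦ] at h1
      exact ⟨⟨v, hgen v h1⟩, rfl⟩
    · rintro ⟨w, rfl⟩
      refine Subtype.ext ?_
      change Φ (w : Fin r → B) = 0
      obtain ⟨w, hw⟩ := w
      change Φ w = 0
      induction hw using Submodule.span_induction with
      | mem v hv => rw [hΦ]; exact hV v hv
      | zero => exact map_zero _
      | add v w _ _ hv hw => rw [map_add, hv, hw, add_zero]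
      | smul b v _ hv => rw [map_smul, hv, smul_zero]
  let i : I →ₗ[A] B := I.subtype.restrictScalars A
  let p : B →ₗ[A] B ⧸ I := (Submodule.mkQ I).restrictScalars A
  haveI : Module.Flat A (B ⧸ I) := hflat
  have hinj : Function.Injective (i.lTensor A') :=
    Groth.Agent.W4Lib.lTensor_injective_of_flat_quotient (g := p) I.subtype_injective
      (LinearMap.exact_subtype_mkQ I) (Submodule.mkQ_surjective I) A'
  let e : A' ⊗[A] (Fin r → B) ≃ₗ[A] (Fin r → A' ⊗[A] B) := TensorProduct.piRight A A A' (fun _ => B)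
  have he : ∀ x, ∑ k, e x k * ((1 : A') ⊗ₜ[A] f k) = i.lTensor A' (g.lTensor A' x) := by
    intro x
    induction x using TensorProduct.induction_on with
    | zero => simp only [map_zero, Pi.zero_apply, zero_mul, Finset.sum_const_zero]
    | tmul b v =>
      simp only [e, TensorProduct.piRight_apply, TensorProduct.piRightHom_tmul, Algebra.TensorProduct.tmul_mul_tmul,
        mul_one, LinearMap.lTensor_tmul]
      rw [← TensorProduct.tmul_sum, ← hΦ]
      rfl
    | add x y hx hy =>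
      simp only [map_add, Pi.add_apply, add_mul, Finset.sum_add_distrib, hx, hy]
  obtain ⟨x, rfl⟩ := e.surjective a
  rw [he] at ha
  have h1 : g.lTensor A' x = 0 := hinj (ha.trans (map_zero _).symm)
  obtain ⟨y, rfl⟩ := (lTensor_exact A' hex hgsurj x).1 h1
  clear ha h1
  induction y using TensorProduct.induction_on with
  | zero =>
    rw [map_zero, map_zero]
    exact zero_mem _
  | tmul b v =>
    have h2 : (fun k => (Algebra.TensorProduct.includeRight : B →ₐ[A] A' ⊗[A] B) ((v : Fin r → B) k)) ∈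
        Submodule.span (A' ⊗[A] B) {w : Fin r → A' ⊗[A] B | ∃ i j : Fin r,
          w = Pi.single i ((1 : A') ⊗ₜ[A] f j) - Pi.single j ((1 : A') ⊗ₜ[A] f i)} := by
      obtain ⟨w, hw⟩ := v
      change (fun k => (Algebra.TensorProduct.includeRight : B →ₐ[A] A' ⊗[A] B) (w k)) ∈ _
      induction hw using Submodule.span_induction with
      | mem v hv => exact htriv v hv
      | zero =>
        simp only [Pi.zero_apply, map_zero]
        exact zero_mem _
      | add v w _ _ hv hw =>
        have := add_mem hv hw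
        simpa only [Pi.add_apply, map_add, Pi.add_def] using this
      | smul c v _ hv =>
        have := Submodule.smul_mem _ ((Algebra.TensorProduct.includeRight : B →ₐ[A] A' ⊗[A] B) c) hv
        simpa only [Pi.smul_apply, smul_eq_mul, map_mul, Pi.smul_def] using this
    have h3 : e (s.lTensor A' (b ⊗ₜ[A] v)) = (b ⊗ₜ[A] (1 : B)) •
        (fun k => (Algebra.TensorProduct.includeRight : B →ₐ[A] A' ⊗[A] B) ((v : Fin r → B) k)) := by
      funext k
      simp [e, s]
    rw [h3]
    exact Submodule.smul_mem _ _ h2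
  | add x y hx hy =>
    rw [map_add, map_add]
    exact add_mem hx hy

/-- A trivial relation over the colimit is one at some stage. -/
theorem exists_triv_stage {ι : Type u} {R : Type u} [CommRing R] {G : ι → Type u} [∀ i, CommRing (G i)]
    [∀ i, Algebra R (G i)] {A : Type u} [CommRing A] [Algebra R A] {g : ∀ i, G i →ₐ[R] A}
    (hG : DirColim.IsColim g) {B₀ : Type u} [CommRing B₀] [Algebra R B₀] {r : ℕ} (f v : Fin r → B₀)
    (h : (fun k => ((1 : A) ⊗ₜ[R] v k : A ⊗[R] B₀)) ∈ Submodule.span (A ⊗[R] B₀)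
      {w : Fin r → A ⊗[R] B₀ | ∃ i j : Fin r, w = Pi.single i ((1 : A) ⊗ₜ[R] f j) - Pi.single j ((1 : A) ⊗ₜ[R] f i)}) :
    ∃ n, (fun k => ((1 : G n) ⊗ₜ[R] v k : G n ⊗[R] B₀)) ∈ Submodule.span (G n ⊗[R] B₀)
      {w : Fin r → G n ⊗[R] B₀ | ∃ i j : Fin r,
        w = Pi.single i ((1 : G n) ⊗ₜ[R] f j) - Pi.single j ((1 : G n) ⊗ₜ[R] f i)} := by
  classical
  rw [show {w : Fin r → A ⊗[R] B₀ | ∃ i j : Fin r, w = Pi.single i ((1 : A) ⊗ₜ[R] f j) - Pi.single j ((1 : A) ⊗ₜ[R] f i)} =
      Set.range (fun p : Fin r × Fin r => Pi.single p.1 ((1 : A) ⊗ₜ[R] f p.2) - Pi.single p.2 ((1 : A) ⊗ₜ[R] f p.1)) by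
    ext w
    simp [eq_comm]] at h
  obtain ⟨c, hc⟩ := Submodule.mem_span_range_iff_exists_fun _ |>.1 h
  obtain ⟨n, x, hx⟩ := (hG.tensorRight B₀).surj_fintype c
  let d : Fin r → G n ⊗[R] B₀ := fun k => (∑ p, x p •
    ((Pi.single p.1 ((1 : G n) ⊗ₜ[R] f p.2) - Pi.single p.2 ((1 : G n) ⊗ₜ[R] f p.1)) : Fin r → G n ⊗[R] B₀)) k - (1 : G n) ⊗ₜ[R] v k
  have hd : ∀ k, (g n).toLinearMap.rTensor B₀ (d k) = 0 := by
    intro k
    have hm : ∀ z, (g n).toLinearMap.rTensor B₀ z = Algebra.TensorProduct.map (g n) (AlgHom.id R B₀) z := by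
      intro z
      induction z using TensorProduct.induction_on with
      | zero => simp
      | tmul a b => simp
      | add a b ha hb => simp only [map_add, ha, hb]
    rw [hm]
    simp only [d, Finset.sum_apply, Pi.smul_apply, Pi.sub_apply, smul_eq_mul, map_sub, map_sum, map_mul,
      Pi.single_apply, apply_ite (Algebra.TensorProduct.map (g n) (AlgHom.id R B₀)), map_zero,
      Algebra.TensorProduct.map_tmul, map_one, AlgHom.coe_id, id_eq, hx]
    rw [sub_eq_zero]
    have := congrFun hc k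
    simpa only [Finset.sum_apply, Pi.smul_apply, Pi.sub_apply, smul_eq_mul, Pi.single_apply] using this
  have key : ∀ t : Finset (Fin r), ∃ m, ∃ φ : DirColim.Trans g n m, ∀ k ∈ t, φ.1.toLinearMap.rTensor B₀ (d k) = 0 := by
    intro t
    induction t using Finset.induction_on with
    | empty => exact ⟨n, ⟨AlgHom.id R (G n), AlgHom.comp_id _⟩, by simp⟩
    | insert b t hb ih =>
      obtain ⟨m, φ, hφ⟩ := ih
      obtain ⟨m', ψ, hψ⟩ := hG.exists_rTensor_eq_zero B₀ m (φ.1.toLinearMap.rTensor B₀ (d b)) (by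
        rw [← LinearMap.rTensor_comp_apply, show (g m).toLinearMap ∘ₗ φ.1.toLinearMap = (g n).toLinearMap from
          congrArg AlgHom.toLinearMap φ.2, hd])
      refine ⟨m', ψ.comp φ, fun k hk => ?_⟩
      show (ψ.1.comp φ.1).toLinearMap.rTensor B₀ (d k) = 0
      rw [show (ψ.1.comp φ.1).toLinearMap = ψ.1.toLinearMap ∘ₗ φ.1.toLinearMap from rfl,
        LinearMap.rTensor_comp_apply]
      rcases Finset.mem_insert.1 hk with rfl | hk
      · exact hψ
      · rw [hφ k hk, map_zero]
  obtain ⟨m, φ, hφ⟩ := key Finset.univ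
  refine ⟨m, ?_⟩
  let P := Algebra.TensorProduct.map φ.1 (AlgHom.id R B₀)
  have hm : ∀ z, φ.1.toLinearMap.rTensor B₀ z = P z := by
    intro z
    induction z using TensorProduct.induction_on with
    | zero => simp
    | tmul a b => simp [P]
    | add a b ha hb => simp only [map_add, ha, hb]
  have heq : (fun k => ((1 : G m) ⊗ₜ[R] v k : G m ⊗[R] B₀)) =
      ∑ p, P (x p) • ((Pi.single p.1 ((1 : G m) ⊗ₜ[R] f p.2) - Pi.single p.2 ((1 : G m) ⊗ₜ[R] f p.1)) :
        Fin r → G m ⊗[R] B₀) := by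
    funext k
    have h1 := hφ k (Finset.mem_univ k)
    rw [hm] at h1
    simp only [P, d, Finset.sum_apply, Pi.smul_apply, Pi.sub_apply, smul_eq_mul, map_sub, map_sum, map_mul,
      Pi.single_apply, apply_ite (Algebra.TensorProduct.map φ.1 (AlgHom.id R B₀)), map_zero,
      Algebra.TensorProduct.map_tmul, map_one, AlgHom.coe_id, id_eq, sub_eq_zero] at h1
    simp only [P, Finset.sum_apply, Pi.smul_apply, Pi.sub_apply, smul_eq_mul, Pi.single_apply]
    exact h1.symm
  rw [heq]
  exact Submodule.sum_mem _ fun p _ => Submodule.smul_mem _ _ (Submodule.subset_span ⟨p.1, p.2, rfl⟩)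

section stages

variable (R A : Type u) [CommRing R] [CommRing A] [Algebra R A]

/-- Finitely generated subalgebras. -/
abbrev Stage (T : Finset A) : Type u := ↥(Algebra.adjoin R (T : Set A))

theorem isColim_stage : DirColim.IsColim (R := R) (G := Stage R A) (A := A)
    fun T => (Algebra.adjoin R (T : Set A)).val := by
  classical
  exact {
    surj := fun a => ⟨{a}, ⟨a, Algebra.subset_adjoin (by simp)⟩, rfl⟩
    directed := fun i j => ⟨i ∪ j,
      ⟨⟨Subalgebra.inclusion (Algebra.adjoin_mono (Finset.coe_subset.2 Finset.subset_union_left)), rfl⟩⟩,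
      ⟨⟨Subalgebra.inclusion (Algebra.adjoin_mono (Finset.coe_subset.2 Finset.subset_union_right)), rfl⟩⟩⟩
    ker := fun i x hx => ⟨i, ⟨AlgHom.id R _, AlgHom.comp_id _⟩, Subtype.ext hx⟩ }

theorem isNoetherianRing_stage [IsNoetherianRing R] (T : Finset A) : IsNoetherianRing (Stage R A T) := by
  haveI : Algebra.FiniteType R (Stage R A T) :=
    (Subalgebra.fg_iff_finiteType _).1 (Subalgebra.fg_adjoin_finset T)
  exact Algebra.FiniteType.isNoetherianRing R _

end stages

/-- A Noetherian model. -/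
def IsModel (A B : Type u) [CommRing A] [CommRing B] [Algebra A B] {r : ℕ} (f : Fin r → B)
    (A₀ B₀ : Type u) [CommRing A₀] [CommRing B₀] [Algebra A₀ A] [Algebra A₀ B₀] (f₀ : Fin r → B₀) : Prop :=
  IsNoetherianRing A₀ ∧ Algebra.FinitePresentation A₀ B₀ ∧
    ∃ e : A ⊗[A₀] B₀ ≃ₐ[A] B, ∀ i, e ((1 : A) ⊗ₜ[A₀] f₀ i) = f i

theorem IsModel.restage {A B : Type u} [CommRing A] [CommRing B] [Algebra A B] {r : ℕ} {f : Fin r → B}
    {A₀ B₀ : Type u} [CommRing A₀] [CommRing B₀] [Algebra A₀ A] [Algebra A₀ B₀] {f₀ : Fin r → B₀}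
    (h : IsModel A B f A₀ B₀ f₀) (T : Finset A) :
    IsModel A B f (Stage A₀ A T) (Stage A₀ A T ⊗[A₀] B₀) fun i => (1 : Stage A₀ A T) ⊗ₜ[A₀] f₀ i := by
  obtain ⟨hN, hfp, e, he⟩ := h
  refine ⟨isNoetherianRing_stage A₀ A T, inferInstance,
    (Algebra.TensorProduct.cancelBaseChange A₀ (Stage A₀ A T) A A B₀).trans e, fun i => ?_⟩
  rw [AlgEquiv.trans_apply, Algebra.TensorProduct.cancelBaseChange_tmul, one_smul, he]

theorem exists_model (A B : Type u) [CommRing A] [CommRing B] [Algebra A B] [Algebra.FinitePresentation A B]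
    {r : ℕ} (f : Fin r → B) :
    ∃ (A₀ B₀ : Type u) (_ : CommRing A₀) (_ : CommRing B₀) (_ : Algebra A₀ A) (_ : Algebra A₀ B₀)
      (f₀ : Fin r → B₀), IsModel A B f A₀ B₀ f₀ := by
  let P := Algebra.Presentation.ofFinitePresentation A B
  haveI : IsNoetherianRing P.Core := Algebra.FiniteType.isNoetherianRing ℤ _
  obtain ⟨T, x, hx⟩ := ((isColim_stage P.Core A).tensorRight (P.ModelOfHasCoeffs P.Core)).surj_fintype
    fun i => (P.tensorModelOfHasCoeffsEquiv P.Core).symm (f i)
  haveI := isNoetherianRing_stage P.Core A T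
  refine ⟨Stage P.Core A T, Stage P.Core A T ⊗[P.Core] P.ModelOfHasCoeffs P.Core, inferInstance, inferInstance,
    inferInstance, inferInstance, x, ‹_›, inferInstance,
    (Algebra.TensorProduct.cancelBaseChange P.Core (Stage P.Core A T) A A (P.ModelOfHasCoeffs P.Core)).trans
      (P.tensorModelOfHasCoeffsEquiv P.Core), fun i => ?_⟩
  rw [AlgEquiv.trans_apply, ← AlgEquiv.eq_symm_apply]
  refine Eq.trans ?_ (hx i)
  generalize x i = z
  induction z using TensorProduct.induction_on with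
  | zero => simp
  | tmul a b =>
    rw [Algebra.TensorProduct.cancelBaseChange_tmul, Algebra.TensorProduct.map_tmul, Algebra.smul_def, mul_one]
    rfl
  | add a b ha hb => simp only [TensorProduct.tmul_add, map_add, ha, hb]

/-- Base change of the quotient by a sequence. -/
noncomputable def quotEquiv (A₀ : Type u) {B₀ : Type u} [CommRing A₀] [CommRing B₀] [Algebra A₀ B₀] (S : Type u) [CommRing S]
    [Algebra A₀ S] {r : ℕ} (f₀ : Fin r → B₀) :
    (S ⊗[A₀] (B₀ ⧸ Ideal.span (Set.range f₀))) ≃ₐ[S]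
      ((S ⊗[A₀] B₀) ⧸ Ideal.span (Set.range fun i => ((1 : S) ⊗ₜ[A₀] f₀ i : S ⊗[A₀] B₀))) :=
  (Algebra.TensorProduct.tensorQuotientEquiv S B₀ S (Ideal.span (Set.range f₀))).trans
    (Ideal.quotientEquivAlgOfEq _ (by rw [Ideal.map_span, ← Set.range_comp]; rfl))

/-- A relation is trivial after base change. -/
def Triv (R : Type u) {B₀ : Type u} [CommRing R] [CommRing B₀] [Algebra R B₀] (S : Type u) [CommRing S] [Algebra R S] {r : ℕ}
    (f v : Fin r → B₀) : Prop :=
  (fun k => ((1 : S) ⊗ₜ[R] v k : S ⊗[R] B₀)) ∈ Submodule.span (S ⊗[R] B₀)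
    {w : Fin r → S ⊗[R] B₀ | ∃ i j : Fin r, w = Pi.single i ((1 : S) ⊗ₜ[R] f j) - Pi.single j ((1 : S) ⊗ₜ[R] f i)}

theorem Triv.map {R B₀ : Type u} [CommRing R] [CommRing B₀] [Algebra R B₀] {S S' : Type u} [CommRing S] [Algebra R S]
    [CommRing S'] [Algebra R S'] (φ : S →ₐ[R] S') {r : ℕ} {f v : Fin r → B₀} (h : Triv R S f v) : Triv R S' f v := by
  have h2 := S9273.relSpan_map (Algebra.TensorProduct.map φ (AlgHom.id R B₀)).toRingHom _ _ h
  simpa only [Triv, AlgHom.toRingHom_eq_coe, RingHom.coe_coe, Algebra.TensorProduct.map_tmul, map_one, AlgHom.coe_id,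
    id_eq] using h2

section colim

variable {A B : Type u} [CommRing A] [CommRing B] [Algebra A B] {r : ℕ} {f : Fin r → B}
  {A₀ B₀ : Type u} [CommRing A₀] [CommRing B₀] [Algebra A₀ A] [Algebra A₀ B₀] {f₀ : Fin r → B₀}
  {ι : Type u} {G : ι → Type u} [∀ i, CommRing (G i)] [∀ i, Algebra A₀ (G i)] {g : ∀ i, G i →ₐ[A₀] A}

theorem IsModel.exists_flat_colim (hM : IsModel A B f A₀ B₀ f₀) (hG : DirColim.IsColim g)
    (hflat : Module.Flat A (B ⧸ Ideal.span (Set.range f))) :
    ∃ T, Module.Flat (G T) ((G T ⊗[A₀] B₀) ⧸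
      Ideal.span (Set.range fun i => ((1 : G T) ⊗ₜ[A₀] f₀ i : G T ⊗[A₀] B₀))) := by
  obtain ⟨hN, hfp, e, he⟩ := hM
  haveI := hN
  haveI := hfp
  haveI : IsNoetherianRing B₀ := Algebra.FiniteType.isNoetherianRing A₀ B₀
  haveI : Module.FinitePresentation B₀ (B₀ ⧸ Ideal.span (Set.range f₀)) := Module.finitePresentation_of_finite _ _
  have hA : Module.Flat A (A ⊗[A₀] (B₀ ⧸ Ideal.span (Set.range f₀))) := by
    haveI : Module.Flat A (B ⧸ Ideal.span (Set.range f)) := hflat
    refine Module.Flat.of_linearEquiv ((quotEquiv A₀ A f₀).trans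
      (Ideal.quotientEquivAlg _ (Ideal.span (Set.range f)) e ?_)).toLinearEquiv
    rw [Ideal.map_span, ← Set.range_comp]
    exact congrArg (fun q => Ideal.span (Set.range q)) (funext fun i => (he i).symm)
  obtain ⟨T, hT⟩ := SyntLim.exists_flat_stage (B₀ := B₀) G A hG (B₀ ⧸ Ideal.span (Set.range f₀)) hA
  exact ⟨T, Module.Flat.of_linearEquiv (quotEquiv A₀ (G T) f₀).symm.toLinearEquiv⟩

theorem IsModel.exists_h1_colim (hM : IsModel A B f A₀ B₀ f₀) (hG : DirColim.IsColim g)
    (hfl : Module.Flat A₀ (B₀ ⧸ Ideal.span (Set.range f₀))) (hf : CAlgX.IsH1Regular f) :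
    ∃ n, Module.Flat (G n) ((G n ⊗[A₀] B₀) ⧸
        Ideal.span (Set.range fun i => ((1 : G n) ⊗ₜ[A₀] f₀ i : G n ⊗[A₀] B₀))) ∧
      CAlgX.IsH1Regular (fun i => ((1 : G n) ⊗ₜ[A₀] f₀ i : G n ⊗[A₀] B₀)) := by
  obtain ⟨hN, hfp, e, he⟩ := hM
  haveI := hN
  haveI := hfp
  haveI := hfl
  haveI : IsNoetherianRing B₀ := Algebra.FiniteType.isNoetherianRing A₀ B₀
  obtain ⟨V, hV⟩ := IsNoetherian.noetherian (LinearMap.ker (Fintype.linearCombination B₀ f₀))
  have hΦ : ∀ v, Fintype.linearCombination B₀ f₀ v = ∑ i, v i * f₀ i := fun v => by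
    simp only [Fintype.linearCombination_apply, smul_eq_mul]
  have hrel : ∀ v ∈ (V : Set (Fin r → B₀)), ∑ i, v i * f₀ i = 0 := fun v hv => by
    rw [← hΦ]
    exact LinearMap.mem_ker.1 (hV ▸ Submodule.subset_span hv)
  have hfA : CAlgX.IsH1Regular fun i => ((1 : A) ⊗ₜ[A₀] f₀ i : A ⊗[A₀] B₀) := by
    have h2 := seqQ_equiv (k := .h1) e.toRingEquiv.symm (Or.inl ⟨rfl, hf⟩)
    rcases h2 with ⟨-, h2⟩ | ⟨h', -⟩
    · convert h2 using 1
      funext i
      rw [eq_comm]
      exact e.toRingEquiv.symm_apply_eq.2 (he i).symm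
    · exact absurd h' (by decide)
  have hstage : ∀ v ∈ (V : Set (Fin r → B₀)), ∃ n, Triv A₀ (G n) f₀ v :=
    fun v hv => exists_triv_stage hG f₀ v (hfA _ (by
      have := congrArg (Algebra.TensorProduct.includeRight : B₀ →ₐ[A₀] A ⊗[A₀] B₀) (hrel v hv)
      simpa only [map_sum, map_mul, map_zero, Algebra.TensorProduct.includeRight_apply] using this))
  obtain ⟨n, hn⟩ := hG.eventually_forall (fun v n => Triv A₀ (G n) f₀ v) (fun v i j φ h => Triv.map φ.1 h) V hstage
  refine ⟨n, Module.Flat.of_linearEquiv (quotEquiv A₀ (G n) f₀).symm.toLinearEquiv, ?_⟩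
  exact h1_baseChange_of_triv (G n) f₀ (V : Set (Fin r → B₀))
    (fun v hv => hV.ge (LinearMap.mem_ker.2 ((hΦ v).trans hv))) hrel hn

end colim

theorem exists_flat_h1_model (A B : Type u) [CommRing A] [CommRing B] [Algebra A B] [Algebra.FinitePresentation A B]
    {r : ℕ} (f : Fin r → B) (hflat : Module.Flat A (B ⧸ Ideal.span (Set.range f))) (hf : CAlgX.IsH1Regular f) :
    ∃ (A₀ B₀ : Type u) (_ : CommRing A₀) (_ : CommRing B₀) (_ : Algebra A₀ A) (_ : Algebra A₀ B₀)
      (f₀ : Fin r → B₀), IsModel A B f A₀ B₀ f₀ ∧ Module.Flat A₀ (B₀ ⧸ Ideal.span (Set.range f₀)) ∧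
        CAlgX.IsH1Regular f₀ := by
  obtain ⟨A₀, B₀, _, _, _, _, f₀, hM⟩ := exists_model A B f
  obtain ⟨T, hT⟩ := hM.exists_flat_colim (isColim_stage A₀ A) hflat
  obtain ⟨n, hn1, hn2⟩ := (hM.restage T).exists_h1_colim (isColim_stage (Stage A₀ A T) A) hT hf
  exact ⟨_, _, inferInstance, inferInstance, inferInstance, inferInstance, _, (hM.restage T).restage n, hn1, hn2⟩

/-- An algebra is flat along the zero locus of an `H_1`-regular sequence with flat quotient. -/
theorem flat_atPrime_of_h1 (A B : Type u) [CommRing A] [CommRing B] [Algebra A B] [Algebra.FinitePresentation A B]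
    {r : ℕ} (f : Fin r → B) (hflat : Module.Flat A (B ⧸ Ideal.span (Set.range f))) (hf : CAlgX.IsH1Regular f)
    (q : Ideal B) [q.IsPrime] (hq : Ideal.span (Set.range f) ≤ q) : Module.Flat A (Localization.AtPrime q) := by
  obtain ⟨A₀, B₀, _, _, _, _, f₀, ⟨hN, hfp, e, he⟩, hfl₀, hf₀⟩ := exists_flat_h1_model A B f hflat hf
  haveI := hN
  haveI := hfp
  haveI := hfl₀
  haveI : IsNoetherianRing B₀ := Algebra.FiniteType.isNoetherianRing A₀ B₀
  let φ : B₀ →+* B := (e : A ⊗[A₀] B₀ →+* B).comp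
    (Algebra.TensorProduct.includeRight : B₀ →ₐ[A₀] A ⊗[A₀] B₀).toRingHom
  let q₀ := q.comap φ
  have hq₀ : Ideal.span (Set.range f₀) ≤ q₀ := by
    rw [Ideal.span_le]
    rintro _ ⟨i, rfl⟩
    show φ (f₀ i) ∈ q
    rw [show φ (f₀ i) = f i from he i]
    exact hq (Ideal.subset_span ⟨i, rfl⟩)
  let M := Localization.AtPrime q₀
  haveI hM : Module.Flat A₀ M := by
    haveI : Module.Flat B₀ M := IsLocalization.flat _ q₀.primeCompl
    have hqr : CAlgX.IsQuasiRegular fun i => algebraMap B₀ M (f₀ i) :=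
      Synt29.QRDescent.qr_flat (CAlgOdd.H1Regular.isQuasiRegular f₀ hf₀)
    have hspan : (Ideal.span (Set.range f₀)).map (algebraMap B₀ M) =
        Ideal.span (Set.range fun i => algebraMap B₀ M (f₀ i)) := Synt29.QRDescent.map_span_range f₀
    haveI : Module.Flat A₀ (M ⧸ Ideal.span (Set.range fun i => algebraMap B₀ M (f₀ i))) := by
      rw [← hspan]
      haveI : IsScalarTower A₀ (B₀ ⧸ Ideal.span (Set.range f₀))
          (M ⧸ (Ideal.span (Set.range f₀)).map (algebraMap B₀ M)) := by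
        refine IsScalarTower.of_algebraMap_eq fun x => ?_
        change _ = Ideal.Quotient.mk _ (algebraMap B₀ M (algebraMap A₀ B₀ x))
        rw [← IsScalarTower.algebraMap_apply]
        rfl
      haveI : Module.Flat (B₀ ⧸ Ideal.span (Set.range f₀)) (M ⧸ (Ideal.span (Set.range f₀)).map (algebraMap B₀ M)) :=
        IsLocalization.flat _ (Algebra.algebraMapSubmonoid (B₀ ⧸ Ideal.span (Set.range f₀)) q₀.primeCompl)
      exact Module.Flat.trans A₀ (B₀ ⧸ Ideal.span (Set.range f₀)) _
    haveI : IsNoetherianRing M := IsLocalization.isNoetherianRing q₀.primeCompl _ inferInstance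
    refine LocalCrit.flat_of_forall_flat_quotient_pow (A := A₀) (B := M) (M := M)
      (Ideal.span (Set.range fun i => algebraMap B₀ M (f₀ i))) ?_ fun n => ?_
    · rw [IsLocalRing.jacobson_eq_maximalIdeal ⊥ bot_ne_top, ← hspan,
        ← IsLocalization.AtPrime.map_eq_maximalIdeal q₀ M]
      exact Ideal.map_mono hq₀
    · haveI := QRegBC.flat_pow (A := A₀) (fun i => algebraMap B₀ M (f₀ i)) hqr (n + 1)
      refine Module.Flat.of_linearEquiv ((Submodule.quotEquivOfEq _
        (Ideal.span (Set.range fun i => algebraMap B₀ M (f₀ i)) ^ (n + 1)) ?_).restrictScalars _)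
      simp [smul_eq_mul]
  -- ascend
  let C := A ⊗[A₀] B₀
  letI : Algebra B₀ C := Algebra.TensorProduct.rightAlgebra
  letI : Algebra M (A ⊗[A₀] M) := Algebra.TensorProduct.rightAlgebra
  let ψ : C →ₐ[A] A ⊗[A₀] M := Algebra.TensorProduct.map (AlgHom.id A A) (IsScalarTower.toAlgHom A₀ B₀ M)
  letI : Algebra C (A ⊗[A₀] M) := ψ.toRingHom.toAlgebra
  letI : Algebra B₀ (A ⊗[A₀] M) := ((algebraMap M (A ⊗[A₀] M)).comp (algebraMap B₀ M)).toAlgebra
  haveI : IsScalarTower B₀ M (A ⊗[A₀] M) := IsScalarTower.of_algebraMap_eq fun _ => rfl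
  haveI : IsScalarTower B₀ C (A ⊗[A₀] M) := IsScalarTower.of_algebraMap_eq fun b => by
    show (1 : A) ⊗ₜ[A₀] algebraMap B₀ M b = ψ ((1 : A) ⊗ₜ[A₀] b)
    simp only [ψ, Algebra.TensorProduct.map_tmul]
    rfl
  haveI : IsScalarTower A C (A ⊗[A₀] M) := IsScalarTower.of_algebraMap_eq fun a => (ψ.commutes a).symm
  haveI : IsScalarTower A₀ B₀ (A ⊗[A₀] M) := IsScalarTower.of_algebraMap_eq fun a => by
    show algebraMap A₀ A a ⊗ₜ[A₀] (1 : M) = (1 : A) ⊗ₜ[A₀] algebraMap B₀ M (algebraMap A₀ B₀ a)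
    rw [← IsScalarTower.algebraMap_apply A₀ B₀ M, Algebra.algebraMap_eq_smul_one, Algebra.algebraMap_eq_smul_one,
      TensorProduct.smul_tmul]
  haveI : Algebra.IsPushout A₀ B₀ A C := TensorProduct.isPushout'
  haveI : Algebra.IsPushout A₀ M A (A ⊗[A₀] M) := TensorProduct.isPushout'
  haveI : IsScalarTower A₀ C (A ⊗[A₀] M) := IsScalarTower.of_algebraMap_eq fun a => by
    rw [IsScalarTower.algebraMap_apply A₀ A C, ← IsScalarTower.algebraMap_apply A C (A ⊗[A₀] M),
      ← IsScalarTower.algebraMap_apply A₀ A (A ⊗[A₀] M)]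
  have hpo : Algebra.IsPushout B₀ M C (A ⊗[A₀] M) := (Algebra.IsPushout.comp_iff A₀ B₀ A C).1 ‹_›
  haveI hloc : IsLocalization (Algebra.algebraMapSubmonoid C q₀.primeCompl) (A ⊗[A₀] M) :=
    (Algebra.isLocalization_iff_isPushout q₀.primeCompl M).2 hpo.symm
  letI : Algebra C (Localization.AtPrime q) :=
    ((algebraMap B (Localization.AtPrime q)).comp (e : C →+* B)).toAlgebra
  haveI : IsLocalization (q.primeCompl.comap (e : C →+* B)) (Localization.AtPrime q) := by
    rw [isLocalization_iff]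
    refine ⟨fun y => IsLocalization.map_units (Localization.AtPrime q) (⟨e y.1, y.2⟩ : q.primeCompl), fun z => ?_,
      fun {x y} h => ?_⟩
    · obtain ⟨⟨b, t⟩, hbt⟩ := IsLocalization.surj q.primeCompl z
      refine ⟨(e.symm b, ⟨e.symm t, ?_⟩), ?_⟩
      · show e (e.symm (t : B)) ∈ q.primeCompl
        rw [e.apply_symm_apply]
        exact t.2
      · show z * algebraMap B _ (e (e.symm (t : B))) = algebraMap B _ (e (e.symm b))
        rw [e.apply_symm_apply, e.apply_symm_apply]
        exact hbt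
    · obtain ⟨c, hc⟩ := IsLocalization.exists_of_eq (M := q.primeCompl)
        (show algebraMap B (Localization.AtPrime q) (e x) = algebraMap B _ (e y) from h)
      refine ⟨⟨e.symm c, ?_⟩, e.injective ?_⟩
      · show e (e.symm (c : B)) ∈ q.primeCompl
        rw [e.apply_symm_apply]
        exact c.2
      · simp only [map_mul, e.apply_symm_apply]
        exact hc
  have hle : Algebra.algebraMapSubmonoid C q₀.primeCompl ≤ q.primeCompl.comap (e : C →+* B) := by
    rintro _ ⟨b, hb, rfl⟩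
    exact hb
  letI := IsLocalization.localizationAlgebraOfSubmonoidLe (A ⊗[A₀] M) (Localization.AtPrime q)
    (Algebra.algebraMapSubmonoid C q₀.primeCompl) (q.primeCompl.comap (e : C →+* B)) hle
  haveI := IsLocalization.localization_isScalarTower_of_submonoid_le (A ⊗[A₀] M) (Localization.AtPrime q)
    (Algebra.algebraMapSubmonoid C q₀.primeCompl) (q.primeCompl.comap (e : C →+* B)) hle
  haveI := IsLocalization.isLocalization_of_submonoid_le (A ⊗[A₀] M) (Localization.AtPrime q)
    (Algebra.algebraMapSubmonoid C q₀.primeCompl) (q.primeCompl.comap (e : C →+* B)) hle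
  haveI : Module.Flat (A ⊗[A₀] M) (Localization.AtPrime q) :=
    IsLocalization.flat _ ((q.primeCompl.comap (e : C →+* B)).map (algebraMap C (A ⊗[A₀] M)))
  haveI : IsScalarTower A (A ⊗[A₀] M) (Localization.AtPrime q) := IsScalarTower.of_algebraMap_eq fun a => by
    refine Eq.trans ?_ (congrArg (algebraMap (A ⊗[A₀] M) (Localization.AtPrime q))
      (IsScalarTower.algebraMap_apply A C (A ⊗[A₀] M) a).symm)
    rw [← IsScalarTower.algebraMap_apply C (A ⊗[A₀] M) (Localization.AtPrime q)]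
    show algebraMap A (Localization.AtPrime q) a = algebraMap B (Localization.AtPrime q) (e (algebraMap A C a))
    rw [e.commutes, ← IsScalarTower.algebraMap_apply]
  exact Module.Flat.trans A (A ⊗[A₀] M) _

end Groth.Agent.RelQR16
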