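import Groth.Agent.RelQR16.Stalk
import Groth.Agent.LinType.Basic
import Mathlib.AlgebraicGeometry.PullbackCarrier

/-! Relative quasi-regularity from the fibres. -/

set_option autoImplicit false
set_option linter.style.haveILetI false
set_option linter.unusedSectionVars false

universe u

open AlgebraicGeometry CategoryTheory CategoryTheory.Limits IsLocalRing

namespace Groth.Agent.RelQR16

theorem hreg_of_fibre {B : Type u} [CommRing B] (n : Ideal B) (hs : List B)
    (hwr : RingTheory.Sequence.IsWeaklyRegular (B ⧸ n) (hs.map (Ideal.Quotient.mk n))) :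
    ∀ j (hj : j < hs.length), ∀ y, hs[j] * y ∈ Ideal.ofList (hs.take j) ⊔ n → y ∈ Ideal.ofList (hs.take j) ⊔ n := by
  intro j hj y hy
  have hcm : ∀ t, Ideal.Quotient.mk n t ∈ Ideal.ofList ((hs.map (Ideal.Quotient.mk n)).take j) ↔
      t ∈ Ideal.ofList (hs.take j) ⊔ n := fun t => by
    rw [← List.map_take, ← Ideal.map_ofList, ← Ideal.mem_comap,
      Ideal.comap_map_of_surjective _ Ideal.Quotient.mk_surjective, ← RingHom.ker_eq_comap_bot, Ideal.mk_ker]
  rw [← hcm] at hy ⊢
  have h3 := hwr.regular_mod_prev j (by simpa using hj)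
  rw [Ideal.smul_eq_mul, Ideal.mul_top] at h3
  rw [← Ideal.Quotient.eq_zero_iff_mem] at hy ⊢
  refine h3.right_eq_zero_of_smul ?_
  rw [map_mul] at hy
  rw [List.getElem_map]
  exact hy

/-- Generators of the stalk forming a regular sequence on the fibre give a regular chart. -/
theorem exists_regular_chart {Z X S : Scheme.{u}} (f : X ⟶ S) [Flat f] [LocallyOfFinitePresentation f] (i : Z ⟶ X)
    (z : Z) {U : X.Opens} (hU : IsAffineOpen U) [IsClosedImmersion (i ∣_ U)] (hzU : i z ∈ U)
    (hfg : (RingHom.ker (i.app U).hom).FG) (hs : List (X.presheaf.stalk (i z)))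
    (hgen : (RingHom.ker (i.app U).hom).map (X.presheaf.germ U (i z) hzU).hom = Ideal.ofList hs)
    (hm : ∀ a ∈ hs, a ∈ maximalIdeal (X.presheaf.stalk (i z)))
    (hreg : ∀ j (hj : j < hs.length), ∀ y,
      hs[j] * y ∈ Ideal.ofList (hs.take j) ⊔ (maximalIdeal (S.presheaf.stalk (f (i z)))).map (f.stalkMap (i z)).hom →
      y ∈ Ideal.ofList (hs.take j) ⊔ (maximalIdeal (S.presheaf.stalk (f (i z)))).map (f.stalkMap (i z)).hom) :
    RegImm.IsRegularImmersionAt RegImm.Kind.regular i z := by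
  classical
  obtain ⟨V₂, hV₂, U', hU', hx', hle', e', hs', hgerm, -, hwr2, -⟩ :=
    Triage.SliceFlat.exists_slice_sch f (i z) (Flat.stalkMap f (i z)) hs hm hreg U hzU
  obtain ⟨g, g', hgg, hzg⟩ := exists_basicOpen_le_affine_inter hU hU' (i z) ⟨hzU, hx'⟩
  have hWU' : X.basicOpen g ≤ U' := hgg ▸ X.basicOpen_le g'
  have hW : IsAffineOpen (X.basicOpen g) := hU.basicOpen g
  haveI : IsClosedImmersion (i ∣_ X.basicOpen g) := restrict_of_le i (X.basicOpen_le g)
  letI := X.presheaf.algebra_section_stalk ⟨i z, hzg⟩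
  haveI := hW.isLocalization_stalk ⟨i z, hzg⟩
  let l₂ := hs'.map (X.presheaf.map (homOfLE hWU').op)
  let K := RingHom.ker (i.app (X.basicOpen g)).hom
  have hK : K = (RingHom.ker (i.app U).hom).map (X.presheaf.map (homOfLE (X.basicOpen_le g)).op).hom :=
    ker_basicOpen i hU g
  have hwr₂ : RingTheory.Sequence.IsWeaklyRegular Γ(X, X.basicOpen g) l₂ := by
    letI := (X.presheaf.map (homOfLE hWU').op).hom.toAlgebra
    haveI : IsLocalization.Away g' Γ(X, X.basicOpen g) := hU'.isLocalization_of_eq_basicOpen g' (homOfLE hWU') hgg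
    haveI : Module.Flat Γ(X, U') Γ(X, X.basicOpen g) := IsLocalization.flat _ (Submonoid.powers g')
    exact RingTheory.Sequence.IsWeaklyRegular.of_flat hwr2
  have heq : K.map (algebraMap Γ(X, X.basicOpen g) (X.presheaf.stalk (i z))) =
      (Ideal.ofList l₂).map (algebraMap Γ(X, X.basicOpen g) (X.presheaf.stalk (i z))) := by
    rw [hK, Ideal.map_ofList]
    simp only [l₂, List.map_map]
    refine (Ideal.map_map (I := RingHom.ker (i.app U).hom) (X.presheaf.map (homOfLE (X.basicOpen_le g)).op).hom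
      (algebraMap Γ(X, X.basicOpen g) (X.presheaf.stalk (i z)))).trans ?_
    refine (congrArg (fun q => Ideal.map q (RingHom.ker (i.app U).hom)) (RingHom.ext fun w =>
      TopCat.Presheaf.germ_res_apply X.presheaf _ _ hzg w)).trans ?_
    refine hgen.trans (congrArg Ideal.ofList (hgerm.symm.trans (List.map_congr_left fun a _ => ?_)))
    exact (TopCat.Presheaf.germ_res_apply X.presheaf _ _ hzg a).symm
  obtain ⟨r, hr, hrI⟩ := MeroX.exists_map_away_eq (P := (hW.primeIdealOf ⟨i z, hzg⟩).asIdeal)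
    (X.presheaf.stalk (i z)) (hK ▸ hfg.map _) ⟨l₂.toFinset, by simp [Ideal.ofList]⟩ heq
  have hzr : i z ∈ X.basicOpen r := by
    rw [Scheme.mem_basicOpen _ _ _ hzg]
    exact IsLocalization.map_units (X.presheaf.stalk (i z))
      (⟨r, hr⟩ : (hW.primeIdealOf ⟨i z, hzg⟩).asIdeal.primeCompl)
  letI := (X.presheaf.map (homOfLE (X.basicOpen_le r)).op).hom.toAlgebra
  haveI : IsLocalization.Away r Γ(X, X.basicOpen r) := hW.isLocalization_basicOpen r
  haveI : Module.Flat Γ(X, X.basicOpen g) Γ(X, X.basicOpen r) := IsLocalization.flat _ (Submonoid.powers r)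
  have hru : IsUnit (algebraMap Γ(X, X.basicOpen g) Γ(X, X.basicOpen r) r) :=
    IsLocalization.map_units _ (⟨r, Submonoid.mem_powers r⟩ : Submonoid.powers r)
  have hker₂ : RingHom.ker (i.app (X.basicOpen r)).hom =
      Ideal.ofList (l₂.map (algebraMap Γ(X, X.basicOpen g) Γ(X, X.basicOpen r))) := by
    rw [ker_basicOpen i hW r, ← Ideal.map_ofList _ l₂]
    refine le_antisymm (Ideal.map_le_iff_le_comap.2 fun y hy => ?_) (Ideal.map_le_iff_le_comap.2 fun y hy => ?_)
    · exact (Ideal.unit_mul_mem_iff_mem _ hru).1 (map_mul (algebraMap Γ(X, X.basicOpen g) Γ(X, X.basicOpen r)) r y ▸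
        Ideal.mem_map_of_mem _ (hrI y hy).1)
    · exact (Ideal.unit_mul_mem_iff_mem _ hru).1 (map_mul (algebraMap Γ(X, X.basicOpen g) Γ(X, X.basicOpen r)) r y ▸
        Ideal.mem_map_of_mem _ ((hrI 0 (zero_mem _)).2 y hy))
  refine ⟨⟨X.basicOpen r, hW.basicOpen r⟩, hzr, restrict_of_le i (X.basicOpen_le r),
    l₂.map (algebraMap Γ(X, X.basicOpen g) Γ(X, X.basicOpen r)),
    ⟨RingTheory.Sequence.IsWeaklyRegular.of_flat hwr₂, ?_⟩, hker₂⟩
  rw [Ideal.smul_eq_mul, Ideal.mul_top, ← hker₂]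
  intro htop
  have h10 : i.app (X.basicOpen r) 1 = 0 := RingHom.mem_ker.1 (htop.le (Submodule.mem_top (x := 1)))
  rw [map_one] at h10
  have h11 := congrArg (Z.presheaf.germ (i ⁻¹ᵁ X.basicOpen r) z hzr) h10
  rw [map_one, map_zero] at h11
  exact one_ne_zero h11

theorem ker_app_eq_ideal {X : Scheme.{u}} (I : X.IdealSheafData) (U : X.affineOpens) :
    RingHom.ker (I.subschemeι.app U.1).hom = I.ideal U := I.ker_subschemeι_app U

/-- On a closed subscheme where a quasi-regular ideal is given, the stalk gets quasi-regular generators. -/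
theorem exists_comap_qr {W X : Scheme.{u}} (j : W ⟶ X) (I : X.IdealSheafData) (w : W) {x : X} (h : j w = x)
    (hq : RegImm.IsRegularImmersion RegImm.Kind.quasi (pullback.snd I.subschemeι j)) (U : X.affineOpens)
    (hxU : x ∈ U.1) (hx : x ∈ I.support) :
    ∃ (r : ℕ) (v : Fin r → W.presheaf.stalk w), CAlgX.IsQuasiRegular v ∧
      ((I.ideal U).map (X.presheaf.germ U.1 x hxU).hom).map (FibFlat.sm j w x h) = Ideal.span (Set.range v) := by
  obtain ⟨z, hz⟩ : x ∈ Set.range I.subschemeι := by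
    rw [Scheme.IdealSheafData.range_subschemeι]
    exact hx
  obtain ⟨z', -, hz'⟩ := Scheme.Pullback.exists_preimage_pullback (f := I.subschemeι) (g := j) z w (hz.trans h.symm)
  obtain ⟨⟨V₀, hV₀⟩, hwV₀, hci, rs, hrs, hker⟩ := hq.2 z'
  replace hwV₀ : w ∈ V₀ := hz' ▸ hwV₀
  obtain ⟨r, hr, hwr⟩ := hV₀.exists_basicOpen_le (V := j ⁻¹ᵁ U.1) ⟨w, show j w ∈ U.1 from h ▸ hxU⟩ hwV₀
  let V : W.affineOpens := ⟨W.basicOpen r, hV₀.basicOpen r⟩
  letI := (W.presheaf.map (homOfLE (W.basicOpen_le r)).op).hom.toAlgebra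
  haveI : IsLocalization.Away r Γ(W, W.basicOpen r) := hV₀.isLocalization_basicOpen r
  haveI : Module.Flat Γ(W, V₀) Γ(W, W.basicOpen r) := IsLocalization.flat _ (Submonoid.powers r)
  have hI' : I.comap j = (pullback.snd I.subschemeι j).ker := by
    rw [← pullbackSymmetry_hom_comp_fst, Scheme.Hom.ker_comp_of_isIso,
      Scheme.IdealSheafData.ker_fst_of_isClosedImmersion, Scheme.IdealSheafData.ker_subschemeι]
  have hVid : (I.comap j).ideal V = Ideal.span (Set.range fun k => algebraMap Γ(W, V₀) Γ(W, W.basicOpen r) (rs.get k)) := by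
    rw [hI', Scheme.Hom.ker_apply]
    refine (ker_basicOpen _ hV₀ r).trans ?_
    rw [hker, ← span_range_get, Ideal.map_span, ← Set.range_comp]
    rfl
  letI := W.presheaf.algebra_section_stalk ⟨w, hwr⟩
  haveI := V.2.isLocalization_stalk ⟨w, hwr⟩
  haveI : Module.Flat Γ(W, W.basicOpen r) (W.presheaf.stalk w) :=
    IsLocalization.flat _ (V.2.primeIdealOf ⟨w, hwr⟩).asIdeal.primeCompl
  refine ⟨rs.length, fun k => W.presheaf.germ V.1 w hwr (algebraMap Γ(W, V₀) Γ(W, W.basicOpen r) (rs.get k)),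
    seqQ_quasi rfl _ (seqQ_flat (A := Γ(W, W.basicOpen r)) (S := W.presheaf.stalk w)
      (seqQ_flat (seqQ_of_seq (Or.inr rfl) rs hrs))), ?_⟩
  have h' := congrArg (Ideal.map (W.presheaf.germ V.1 w hwr).hom) hVid
  rw [ModPairLib.ideal_comap I j U V hr, Ideal.map_span, ← Set.range_comp] at h'
  refine Eq.trans ?_ h'
  refine (Ideal.map_map (I := I.ideal U) (X.presheaf.germ U.1 x hxU).hom (FibFlat.sm j w x h)).trans (Eq.trans ?_
    (Ideal.map_map (I := I.ideal U) (j.appLE U.1 V.1 hr).hom (W.presheaf.germ V.1 w hwr).hom).symm)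
  refine congrArg (fun q => Ideal.map q (I.ideal U)) (RingHom.ext fun y => ?_)
  refine (RelCurveDiv.sm_germ j hxU w h y).trans ?_
  exact (TopCat.Presheaf.germ_res_apply W.presheaf (homOfLE hr) w hwr (j.app U.1 y)).symm

theorem quasi_of_regular {R : Type u} [CommRing R] (rs : List R) (h : RingTheory.Sequence.IsWeaklyRegular R rs) :
    CAlgX.IsQuasiRegular rs.get :=
  fun _ _ hP he d => LinType.quasiRegular rs.get (by rwa [List.ofFn_get]) hP he d

/-- Quasi-regular fibres and flatness give relative quasi-regularity. -/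
theorem isRelRegularImmersion_of_fibres {X S : Scheme.{u}} (f : X ⟶ S) [Flat f] [LocallyOfFinitePresentation f]
    (I : X.IdealSheafData) [Flat (I.subschemeι ≫ f)] [LocallyOfFinitePresentation (I.subschemeι ≫ f)]
    (hfib : ∀ s : ↥S, RegImm.IsRegularImmersion RegImm.Kind.quasi (pullback.snd I.subschemeι (f.fiberι s))) :
    RegImm.IsRelRegularImmersion RegImm.Kind.quasi f I.subschemeι := by
  refine ⟨⟨inferInstance, fun z => ?_⟩, inferInstance⟩
  obtain ⟨W, hxW⟩ := FlatX.exists_chart f (I.subschemeι z)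
  obtain ⟨U₀, hU₀, hxU, hle⟩ :=
    exists_isAffineOpen_mem_and_subset (X := X) (x := I.subschemeι z) (U := f ⁻¹ᵁ W.1) hxW
  let U : X.affineOpens := ⟨U₀, hU₀⟩
  have hx : I.subschemeι z ∈ I.support := by
    rw [← SetLike.mem_coe, ← Scheme.IdealSheafData.range_subschemeι]
    exact ⟨z, rfl⟩
  have hfg := MeroX.fg_ideal_of_lfp' f I inferInstance W U hle
  obtain ⟨r, v, hv, hφJ⟩ := exists_comap_qr (f.fiberι (f (I.subschemeι z))) I (f.asFiber (I.subschemeι z))
    (f.fiberι_asFiber (I.subschemeι z)) (hfib _) U hxU hx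
  let J := (I.ideal U).map (X.presheaf.germ U.1 (I.subschemeι z) hxU).hom
  let φ := FibFlat.sm (f.fiberι (f (I.subschemeι z))) (f.asFiber (I.subschemeι z)) (I.subschemeι z)
    (f.fiberι_asFiber (I.subschemeι z))
  have hsur : Function.Surjective φ := FibFlat.surjective_sm _ _ _
  have hJm : J ≤ maximalIdeal (X.presheaf.stalk (I.subschemeι z)) :=
    MeroX.le_maximalIdeal_of_mem_support I U hxU hx
  have hlift : ∀ k, ∃ a ∈ J, φ a = v k := fun k =>
    (Ideal.mem_map_iff_of_surjective φ hsur).1 (hφJ ▸ Ideal.subset_span ⟨k, rfl⟩)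
  choose a haJ hav using hlift
  let n := (maximalIdeal (S.presheaf.stalk (f (I.subschemeι z)))).map (f.stalkMap (I.subschemeι z)).hom
  have hker : RingHom.ker φ = n := by
    simp only [n, ← FibFlat.sm_self f (I.subschemeι z)]
    exact FibFlat.ker_sm_fiberι f (f (I.subschemeι z)) (f.asFiber (I.subschemeι z)) (I.subschemeι z)
      (f.fiberι_asFiber (I.subschemeι z))
  letI := (f.stalkMap (I.subschemeι z)).hom.toAlgebra
  haveI : IsLocalHom (algebraMap (S.presheaf.stalk (f (I.subschemeι z))) (X.presheaf.stalk (I.subschemeι z))) :=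
    inferInstanceAs (IsLocalHom (f.stalkMap (I.subschemeι z)).hom)
  haveI : Module.Flat (S.presheaf.stalk (f (I.subschemeι z))) (X.presheaf.stalk (I.subschemeι z) ⧸ J) :=
    MeroX.flat_stalk_quotient' f I inferInstance W U hle hxU
  have hgen : J = Ideal.ofList (List.ofFn a) := by
    have hsp : Ideal.ofList (List.ofFn a) = Ideal.span (Set.range a) := by
      show Ideal.span {y | y ∈ List.ofFn a} = _
      congr 1
      ext y
      simp [List.mem_ofFn]
    rw [hsp]
    refine le_antisymm ?_ (Ideal.span_le.2 (Set.range_subset_iff.2 haJ))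
    refine Submodule.le_of_le_smul_of_le_jacobson_bot (I := maximalIdeal (X.presheaf.stalk (I.subschemeι z)))
      (hfg.map _) (IsLocalRing.maximalIdeal_le_jacobson _) fun y hy => ?_
    obtain ⟨c, hc⟩ := (Ideal.mem_span_range_iff_exists_fun).1
      (show φ y ∈ Ideal.span (Set.range v) from hφJ ▸ Ideal.mem_map_of_mem φ hy)
    choose c' hc' using fun k => hsur (c k)
    have hk : y - ∑ k, c' k * a k ∈ n := by
      rw [← hker, RingHom.mem_ker, map_sub, map_sum, ← hc, sub_eq_zero]
      exact Finset.sum_congr rfl fun k _ => by rw [map_mul, hc', hav]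
    have hsum : ∑ k, c' k * a k ∈ Ideal.span (Set.range a) :=
      Ideal.sum_mem _ fun k _ => Ideal.mul_mem_left _ _ (Ideal.subset_span ⟨k, rfl⟩)
    refine Submodule.mem_sup.2 ⟨_, hsum, y - ∑ k, c' k * a k, ?_, add_sub_cancel _ _⟩
    exact Submodule.smul_mono_left (((IsLocalRing.local_hom_TFAE
      (algebraMap (S.presheaf.stalk (f (I.subschemeι z))) (X.presheaf.stalk (I.subschemeι z)))).out 0 2).1 ‹_›)
      (RelCurveDiv.mem_smul_of_flat_quotient (maximalIdeal (S.presheaf.stalk (f (I.subschemeι z)))) J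
        (sub_mem hy (Ideal.sum_mem _ fun k _ => J.mul_mem_left _ (haJ k))) hk)
  have hwr : RingTheory.Sequence.IsWeaklyRegular (X.presheaf.stalk (I.subschemeι z) ⧸ n)
      ((List.ofFn a).map (Ideal.Quotient.mk n)) := by
    haveI := noetherian_fibre_stalk f (I.subschemeι z)
    let e := (Ideal.quotEquivOfEq hker.symm).trans (RingHom.quotientKerEquivOfSurjective (f := φ) hsur)
    have he : ∀ t, e (Ideal.Quotient.mk n t) = φ t := fun t => rfl
    have hn : n ≤ maximalIdeal (X.presheaf.stalk (I.subschemeι z)) :=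
      ((IsLocalRing.local_hom_TFAE (algebraMap (S.presheaf.stalk (f (I.subschemeι z)))
        (X.presheaf.stalk (I.subschemeι z)))).out 0 2).1 ‹_›
    haveI : Nontrivial (X.presheaf.stalk (I.subschemeι z) ⧸ n) := Ideal.Quotient.nontrivial_iff.2 fun h =>
      (maximalIdeal.isMaximal _).ne_top (top_le_iff.1 (h ▸ hn))
    haveI : IsLocalRing (X.presheaf.stalk (I.subschemeι z) ⧸ n) :=
      IsLocalRing.of_surjective' (Ideal.Quotient.mk n) Ideal.Quotient.mk_surjective
    rw [List.map_ofFn]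
    refine LinType.isWeaklyRegular_of_isQuasiRegular r _ _ (fun k => ?_) ?_
    · rw [IsLocalRing.ringJacobson_eq_maximalIdeal, mem_maximalIdeal, mem_nonunits_iff]
      intro hu
      obtain ⟨c, hc⟩ := hu.exists_right_inv
      obtain ⟨c, rfl⟩ := Ideal.Quotient.mk_surjective c
      rw [Function.comp_apply, ← map_mul, ← (Ideal.Quotient.mk n).map_one, Ideal.Quotient.mk_eq_mk_iff_sub_mem] at hc
      exact (maximalIdeal.isMaximal _).ne_top ((Ideal.eq_top_iff_one _).2
        (sub_sub_cancel (a k * c) 1 ▸ sub_mem (Ideal.mul_mem_right _ _ (hJm (haJ k))) (hn hc)))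
    · have h2 := seqQ_quasi rfl _ (seqQ_equiv e.symm (k := RegImm.Kind.quasi) (Or.inr ⟨rfl, hv⟩))
      convert h2 using 1
      funext k
      show Ideal.Quotient.mk n (a k) = e.symm (v k)
      rw [RingEquiv.eq_symm_apply, he, hav]
  haveI : IsClosedImmersion (I.subschemeι ∣_ U.1) := IsZariskiLocalAtTarget.restrict (inferInstanceAs (IsClosedImmersion I.subschemeι)) U.1
  obtain ⟨⟨U', hU'⟩, hzU', hci, rs, hrs, hk'⟩ := exists_regular_chart f I.subschemeι z U.2 hxU
    (by rw [ker_app_eq_ideal]; exact hfg) (List.ofFn a) (by rw [ker_app_eq_ideal]; exact hgen)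
    (fun y hy => by
      obtain ⟨k, rfl⟩ := (List.mem_ofFn).1 hy
      exact hJm (haJ k)) (hreg_of_fibre n _ hwr)
  exact ⟨⟨U', hU'⟩, hzU', hci, rs, quasi_of_regular rs hrs.1, hk'⟩

end Groth.Agent.RelQR16
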