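import Groth.Agent.RelQR16.Scheme
import Groth.Agent.MeroX.FibreCartier
import Groth.Agent.LinType.QReg
import Groth.Agent.LocalCrit.Flatness
import Mathlib.RingTheory.Regular.Flat
import Mathlib.RingTheory.TensorProduct.Quotient
import Mathlib.AlgebraicGeometry.Fiber
import Mathlib.AlgebraicGeometry.Noetherian

/-! Relatively quasi-regular immersions at a point: flatness, fibrewise regularity. -/

set_option autoImplicit false
set_option linter.style.haveILetI false
set_option linter.unusedSectionVars false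

universe u

open AlgebraicGeometry CategoryTheory CategoryTheory.Limits IsLocalRing

namespace Groth.Agent.RelQR16

/-- A chart read in the local rings. -/
theorem stalk_facts {Z X S : Scheme.{u}} (f : X ⟶ S) (i : Z ⟶ X) {k : RegImm.Kind} {V : S.Opens} (hV : IsAffineOpen V)
    {U : X.Opens} (hU : IsAffineOpen U) (e : U ≤ f ⁻¹ᵁ V) {rs : List Γ(X, U)} {z : Z} (hzU : i z ∈ U)
    (hseq : SeqQ k rs.get) (hker : RingHom.ker (i.app U).hom = Ideal.ofList rs)
    (hfl : ((Ideal.Quotient.mk (Ideal.ofList rs)).comp (f.appLE V U e).hom).Flat) :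
    SeqQ k (fun j => X.presheaf.germ U (i z) hzU (rs.get j)) ∧
      (∀ j, X.presheaf.germ U (i z) hzU (rs.get j) ∈ maximalIdeal (X.presheaf.stalk (i z))) ∧
      ((Ideal.Quotient.mk (Ideal.span (Set.range fun j => X.presheaf.germ U (i z) hzU (rs.get j)))).comp
        (f.stalkMap (i z)).hom).Flat := by
  letI := X.presheaf.algebra_section_stalk ⟨i z, hzU⟩
  haveI := hU.isLocalization_stalk ⟨i z, hzU⟩
  haveI : Module.Flat Γ(X, U) (X.presheaf.stalk (i z)) :=
    IsLocalization.flat _ (hU.primeIdealOf ⟨i z, hzU⟩).asIdeal.primeCompl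
  refine ⟨seqQ_flat (A := Γ(X, U)) (S := X.presheaf.stalk (i z)) hseq, fun j => ?_, ?_⟩
  · rw [mem_maximalIdeal, mem_nonunits_iff]
    intro hu
    have h1 : (i.app U).hom (rs.get j) = 0 :=
      RingHom.mem_ker.1 (hker.ge (Ideal.subset_span (List.get_mem rs j)))
    have h2 := hu.map (i.stalkMap z).hom
    rw [show (i.stalkMap z).hom (X.presheaf.germ U (i z) hzU (rs.get j)) = 0 from
      (Scheme.Hom.germ_stalkMap_apply i U z hzU _).trans ((congrArg _ h1).trans (map_zero _))] at h2
    exact not_isUnit_zero h2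
  · letI := (f.appLE V U e).hom.toAlgebra
    letI : Algebra Γ(S, V) (X.presheaf.stalk (i z)) :=
      ((X.presheaf.germ U (i z) hzU).hom.comp (f.appLE V U e).hom).toAlgebra
    haveI : IsScalarTower Γ(S, V) Γ(X, U) (X.presheaf.stalk (i z)) := IsScalarTower.of_algebraMap_eq fun _ => rfl
    letI := S.presheaf.algebra_section_stalk ⟨f (i z), e hzU⟩
    haveI := hV.isLocalization_stalk ⟨f (i z), e hzU⟩
    have hspan : (Ideal.ofList rs).map (algebraMap Γ(X, U) (X.presheaf.stalk (i z))) =
        Ideal.span (Set.range fun j => X.presheaf.germ U (i z) hzU (rs.get j)) := by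
      rw [← span_range_get, Ideal.map_span, ← Set.range_comp]
      rfl
    have hq := MeroX.flat_quot_loc (Ideal.ofList rs) (hU.primeIdealOf ⟨i z, hzU⟩).asIdeal.primeCompl
      (X.presheaf.stalk (i z)) (RingHom.flat_algebraMap_iff.1 hfl)
    letI := (f.stalkMap (i z)).hom.toAlgebra
    haveI : IsScalarTower Γ(S, V) (S.presheaf.stalk (f (i z))) (X.presheaf.stalk (i z)) := by
      refine IsScalarTower.of_algebraMap_eq fun w => ?_
      change X.presheaf.germ U (i z) hzU (f.appLE V U e w) =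
        f.stalkMap (i z) (S.presheaf.germ V (f (i z)) (e hzU) w)
      rw [Scheme.Hom.germ_stalkMap_apply, Scheme.Hom.appLE, CommRingCat.comp_apply,
        TopCat.Presheaf.germ_res_apply]
    have h3 : Module.Flat (S.presheaf.stalk (f (i z)))
        (X.presheaf.stalk (i z) ⧸ (Ideal.ofList rs).map (algebraMap Γ(X, U) (X.presheaf.stalk (i z)))) :=
      (Module.flat_iff_of_isLocalization (S.presheaf.stalk (f (i z)))
        (hV.primeIdealOf ⟨f (i z), e hzU⟩).asIdeal.primeCompl _).mpr hq
    rw [hspan] at h3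
    exact h3

theorem flat_stalkMap {Z X S : Scheme.{u}} (f : X ⟶ S) (i : Z ⟶ X)
    (hi : RegImm.IsRelRegularImmersion RegImm.Kind.quasi f i) (z : Z)
    [IsNoetherianRing (X.presheaf.stalk (i z))] : (f.stalkMap (i z)).hom.Flat := by
  obtain ⟨V, hV, U, hU, e, rs, hzU, -, hseq, hker, hfl⟩ := exists_chart f i (Or.inr rfl) hi z
  obtain ⟨hq, hm, hfl'⟩ := stalk_facts f i hV hU e hzU hseq hker hfl
  letI := (f.stalkMap (i z)).hom.toAlgebra
  let v := fun j => X.presheaf.germ U (i z) hzU (rs.get j)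
  haveI : Module.Flat (S.presheaf.stalk (f (i z))) (X.presheaf.stalk (i z) ⧸ Ideal.span (Set.range v)) :=
    RingHom.flat_algebraMap_iff.1 hfl'
  have h := LocalCrit.flat_of_forall_flat_quotient_pow (A := S.presheaf.stalk (f (i z)))
    (B := X.presheaf.stalk (i z)) (M := X.presheaf.stalk (i z)) (Ideal.span (Set.range v))
    (by
      rw [IsLocalRing.jacobson_eq_maximalIdeal ⊥ bot_ne_top, Ideal.span_le]
      rintro _ ⟨j, rfl⟩
      exact hm j) fun n => by
      haveI := QRegBC.flat_pow (A := S.presheaf.stalk (f (i z))) v (seqQ_quasi rfl _ hq) (n + 1)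
      refine Module.Flat.of_linearEquiv
        ((Submodule.quotEquivOfEq _ (Ideal.span (Set.range v) ^ (n + 1)) ?_).restrictScalars _)
      simp [smul_eq_mul]
  exact h

theorem reg_fibre {A B : Type u} [CommRing A] [CommRing B] [IsLocalRing A] [Algebra A B] [IsLocalRing B]
    {r : ℕ} (v : Fin r → B) (hm : ∀ j, v j ∈ maximalIdeal B) (hq : CAlgX.IsQuasiRegular v)
    [Module.Flat A (B ⧸ Ideal.span (Set.range v))] (hle : (maximalIdeal A).map (algebraMap A B) ≤ maximalIdeal B)
    (hN : IsNoetherianRing (B ⧸ (maximalIdeal A).map (algebraMap A B))) :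
    RingTheory.Sequence.IsWeaklyRegular (B ⧸ (maximalIdeal A).map (algebraMap A B))
      (List.ofFn fun j => Ideal.Quotient.mk ((maximalIdeal A).map (algebraMap A B)) (v j)) := by
  set n := (maximalIdeal A).map (algebraMap A B)
  have h1 := seqQ_equiv (Algebra.TensorProduct.quotIdealMapEquivQuotTensor B (maximalIdeal A)).symm.toRingEquiv
    (seqQ_baseChange (k := .quasi) (A ⧸ maximalIdeal A) (Or.inr ⟨rfl, hq⟩))
  have h2 : CAlgX.IsQuasiRegular fun j => Ideal.Quotient.mk n (v j) := by
    have h3 := seqQ_quasi rfl _ h1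
    convert h3 using 1
    funext j
    show _ = (Algebra.TensorProduct.quotIdealMapEquivQuotTensor B (maximalIdeal A)).symm _
    rw [eq_comm, AlgEquiv.symm_apply_eq, Algebra.TensorProduct.quotIdealMapEquivQuotTensor_mk]
  haveI : Nontrivial (B ⧸ n) := Ideal.Quotient.nontrivial_iff.2 fun h =>
    (maximalIdeal.isMaximal B).ne_top (top_le_iff.1 (h ▸ hle))
  haveI : IsLocalRing (B ⧸ n) :=
    IsLocalRing.of_surjective' (Ideal.Quotient.mk n) Ideal.Quotient.mk_surjective
  refine LinType.isWeaklyRegular_of_isQuasiRegular r _ _ (fun j => ?_) h2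
  rw [IsLocalRing.ringJacobson_eq_maximalIdeal, mem_maximalIdeal, mem_nonunits_iff]
  intro hu
  obtain ⟨c, hc⟩ := hu.exists_right_inv
  obtain ⟨c, rfl⟩ := Ideal.Quotient.mk_surjective c
  rw [← map_mul, ← (Ideal.Quotient.mk n).map_one, Ideal.Quotient.mk_eq_mk_iff_sub_mem] at hc
  exact (maximalIdeal.isMaximal B).ne_top ((Ideal.eq_top_iff_one _).2
    (sub_sub_cancel (v j * c) 1 ▸ sub_mem (Ideal.mul_mem_right _ _ (hm j)) (hle hc)))

theorem noetherian_fibre_stalk {X S : Scheme.{u}} (f : X ⟶ S) [LocallyOfFiniteType f] (x : X) :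
    IsNoetherianRing (X.presheaf.stalk x ⧸ (maximalIdeal (S.presheaf.stalk (f x))).map (f.stalkMap x).hom) := by
  let φ := FibFlat.sm (f.fiberι (f x)) (f.asFiber x) x (f.fiberι_asFiber x)
  have hker : RingHom.ker φ = (maximalIdeal (S.presheaf.stalk (f x))).map (f.stalkMap x).hom := by
    rw [← FibFlat.sm_self f x]
    exact FibFlat.ker_sm_fiberι f (f x) (f.asFiber x) x (f.fiberι_asFiber x)
  haveI : LocallyOfFiniteType (f.fiberToSpecResidueField (f x)) :=
    MorphismProperty.pullback_snd (P := @LocallyOfFiniteType) _ _ ‹_›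
  haveI : IsLocallyNoetherian (f.fiber (f x)) :=
    LocallyOfFiniteType.isLocallyNoetherian (f.fiberToSpecResidueField (f x))
  let e := (Ideal.quotEquivOfEq hker.symm).trans
    (RingHom.quotientKerEquivOfSurjective (f := φ) (FibFlat.surjective_sm (f.asFiber x) x (f.fiberι_asFiber x)))
  exact isNoetherianRing_of_ringEquiv _ e.symm

/-- Where `f` is flat along the subscheme, relatively quasi-regular gives regular. -/
theorem isRegularImmersion_regular_of_flatAt {Z X S : Scheme.{u}} (f : X ⟶ S) [LocallyOfFinitePresentation f]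
    (i : Z ⟶ X) (hflat : ∀ z : Z, (f.stalkMap (i z)).hom.Flat)
    (hi : RegImm.IsRelRegularImmersion RegImm.Kind.quasi f i) :
    RegImm.IsRegularImmersion RegImm.Kind.regular i := by
  refine ⟨hi.1.1, fun z => ?_⟩
  obtain ⟨V, hV, U, hU, e, rs, hzU, hci, hseq, hker, hfl⟩ := exists_chart f i (Or.inr rfl) hi z
  obtain ⟨hq, hm, hfl'⟩ := stalk_facts f i hV hU e hzU hseq hker hfl
  letI := (f.stalkMap (i z)).hom.toAlgebra
  haveI : Module.Flat (S.presheaf.stalk (f (i z))) (X.presheaf.stalk (i z) ⧸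
      Ideal.span (Set.range fun j => X.presheaf.germ U (i z) hzU (rs.get j))) :=
    RingHom.flat_algebraMap_iff.1 hfl'
  haveI : IsLocalHom (algebraMap (S.presheaf.stalk (f (i z))) (X.presheaf.stalk (i z))) :=
    inferInstanceAs (IsLocalHom (f.stalkMap (i z)).hom)
  have hle : (maximalIdeal (S.presheaf.stalk (f (i z)))).map
      (algebraMap (S.presheaf.stalk (f (i z))) (X.presheaf.stalk (i z))) ≤ maximalIdeal (X.presheaf.stalk (i z)) :=
    ((IsLocalRing.local_hom_TFAE (algebraMap (S.presheaf.stalk (f (i z))) (X.presheaf.stalk (i z)))).out 0 2).1 ‹_›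
  have hwr := reg_fibre (A := S.presheaf.stalk (f (i z))) (fun j => X.presheaf.germ U (i z) hzU (rs.get j)) hm
    (seqQ_quasi rfl _ hq) hle (noetherian_fibre_stalk f (i z))
  let hs := rs.map (X.presheaf.germ U (i z) hzU)
  let n := (maximalIdeal (S.presheaf.stalk (f (i z)))).map (f.stalkMap (i z)).hom
  have hlist : (List.ofFn fun j => Ideal.Quotient.mk n (X.presheaf.germ U (i z) hzU (rs.get j))) =
      hs.map (Ideal.Quotient.mk n) := by
    apply List.ext_getElem (by simp [hs])
    intro j h1 h2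
    simp [hs]
  have hwr' : RingTheory.Sequence.IsWeaklyRegular (X.presheaf.stalk (i z) ⧸ n) (hs.map (Ideal.Quotient.mk n)) :=
    hlist ▸ hwr
  have hreg : ∀ j (hj : j < hs.length), ∀ y, hs[j] * y ∈ Ideal.ofList (hs.take j) ⊔ n →
      y ∈ Ideal.ofList (hs.take j) ⊔ n := by
    intro j hj y hy
    have hcm : ∀ t, Ideal.Quotient.mk n t ∈ Ideal.ofList ((hs.map (Ideal.Quotient.mk n)).take j) ↔
        t ∈ Ideal.ofList (hs.take j) ⊔ n := fun t => by
      rw [← List.map_take, ← Ideal.map_ofList, ← Ideal.mem_comap,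
        Ideal.comap_map_of_surjective _ Ideal.Quotient.mk_surjective, ← RingHom.ker_eq_comap_bot, Ideal.mk_ker]
    rw [← hcm] at hy ⊢
    have h3 := hwr'.regular_mod_prev j (by simpa using hj)
    rw [Ideal.smul_eq_mul, Ideal.mul_top] at h3
    rw [← Ideal.Quotient.eq_zero_iff_mem] at hy ⊢
    refine h3.right_eq_zero_of_smul ?_
    rw [map_mul] at hy
    rw [List.getElem_map]
    exact hy
  obtain ⟨V₂, hV₂, U', hU', hx', hle', e', hs', hgerm, -, hwr2, -⟩ :=
    Triage.SliceFlat.exists_slice_sch f (i z) (hflat z) hs (by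
      intro a ha
      obtain ⟨b, hb, rfl⟩ := List.mem_map.1 ha
      obtain ⟨j, rfl⟩ := List.get_of_mem hb
      exact hm j) hreg U hzU
  obtain ⟨g, g', hgg, hzg⟩ := exists_basicOpen_le_affine_inter hU hU' (i z) ⟨hzU, hx'⟩
  have hWU' : X.basicOpen g ≤ U' := hgg ▸ X.basicOpen_le g'
  have hW : IsAffineOpen (X.basicOpen g) := hU.basicOpen g
  haveI : IsClosedImmersion (i ∣_ X.basicOpen g) := restrict_of_le i (X.basicOpen_le g)
  letI := X.presheaf.algebra_section_stalk ⟨i z, hzg⟩
  haveI := hW.isLocalization_stalk ⟨i z, hzg⟩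
  let l₁ := rs.map (X.presheaf.map (homOfLE (X.basicOpen_le g)).op)
  let l₂ := hs'.map (X.presheaf.map (homOfLE hWU').op)
  have hker₁ : RingHom.ker (i.app (X.basicOpen g)).hom = Ideal.ofList l₁ := by
    rw [ker_basicOpen i hU g, hker, Ideal.map_ofList]
  have hwr₂ : RingTheory.Sequence.IsWeaklyRegular Γ(X, X.basicOpen g) l₂ := by
    letI := (X.presheaf.map (homOfLE hWU').op).hom.toAlgebra
    haveI : IsLocalization.Away g' Γ(X, X.basicOpen g) := hU'.isLocalization_of_eq_basicOpen g' (homOfLE hWU') hgg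
    haveI : Module.Flat Γ(X, U') Γ(X, X.basicOpen g) := IsLocalization.flat _ (Submonoid.powers g')
    exact RingTheory.Sequence.IsWeaklyRegular.of_flat hwr2
  have heq : (Ideal.ofList l₁).map (algebraMap Γ(X, X.basicOpen g) (X.presheaf.stalk (i z))) =
      (Ideal.ofList l₂).map (algebraMap Γ(X, X.basicOpen g) (X.presheaf.stalk (i z))) := by
    rw [Ideal.map_ofList, Ideal.map_ofList]
    congr 1
    simp only [l₁, l₂, List.map_map]
    refine Eq.trans (List.map_congr_left fun a _ => ?_) (hgerm.symm.trans (List.map_congr_left fun a _ => ?_))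
    · exact TopCat.Presheaf.germ_res_apply X.presheaf _ _ hzg a
    · exact (TopCat.Presheaf.germ_res_apply X.presheaf _ _ hzg a).symm
  classical
  obtain ⟨r, hr, hrI⟩ := MeroX.exists_map_away_eq (P := (hW.primeIdealOf ⟨i z, hzg⟩).asIdeal)
    (X.presheaf.stalk (i z)) ⟨l₁.toFinset, by simp [Ideal.ofList]⟩ ⟨l₂.toFinset, by simp [Ideal.ofList]⟩ heq
  have hzr : i z ∈ X.basicOpen r := by
    rw [Scheme.mem_basicOpen _ _ _ hzg]
    exact IsLocalization.map_units (X.presheaf.stalk (i z))
      (⟨r, hr⟩ : (hW.primeIdealOf ⟨i z, hzg⟩).asIdeal.primeCompl)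
  letI := (X.presheaf.map (homOfLE (X.basicOpen_le r)).op).hom.toAlgebra
  haveI : IsLocalization.Away r Γ(X, X.basicOpen r) := hW.isLocalization_basicOpen r
  haveI : Module.Flat Γ(X, X.basicOpen g) Γ(X, X.basicOpen r) := IsLocalization.flat _ (Submonoid.powers r)
  have hru : IsUnit (algebraMap Γ(X, X.basicOpen g) Γ(X, X.basicOpen r) r) :=
    IsLocalization.map_units _ (⟨r, Submonoid.mem_powers r⟩ : Submonoid.powers r)
  have hker₂ : RingHom.ker (i.app (X.basicOpen r)).hom =
      Ideal.ofList (l₂.map (algebraMap Γ(X, X.basicOpen g) Γ(X, X.basicOpen r))) := by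
    rw [ker_basicOpen i hW r, hker₁, ← Ideal.map_ofList _ l₂]
    refine le_antisymm (Ideal.map_le_iff_le_comap.2 fun y hy => ?_) (Ideal.map_le_iff_le_comap.2 fun y hy => ?_)
    · exact (Ideal.unit_mul_mem_iff_mem _ hru).1 (map_mul (algebraMap Γ(X, X.basicOpen g) Γ(X, X.basicOpen r)) r y ▸
        Ideal.mem_map_of_mem _ (hrI y hy).1)
    · exact (Ideal.unit_mul_mem_iff_mem _ hru).1 (map_mul (algebraMap Γ(X, X.basicOpen g) Γ(X, X.basicOpen r)) r y ▸
        Ideal.mem_map_of_mem _ ((hrI 0 (zero_mem _)).2 y hy))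
  refine ⟨⟨X.basicOpen r, hW.basicOpen r⟩, hzr, restrict_of_le i (X.basicOpen_le r),
    l₂.map (algebraMap Γ(X, X.basicOpen g) Γ(X, X.basicOpen r)),
    ⟨RingTheory.Sequence.IsWeaklyRegular.of_flat hwr₂, ?_⟩, hker₂⟩
  rw [Ideal.smul_eq_mul, Ideal.mul_top, ← hker₂]
  intro htop
  have h10 : i.app (X.basicOpen r) 1 = 0 := RingHom.mem_ker.1 (htop.le (Submodule.mem_top (x := 1)))
  rw [map_one] at h10
  have h11 := congrArg (Z.presheaf.germ (i ⁻¹ᵁ X.basicOpen r) z hzr) h10
  rw [map_one, map_zero] at h11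
  exact one_ne_zero h11

/-- Over a flat morphism locally of finite presentation, relatively quasi-regular gives regular. -/
theorem isRegularImmersion_regular {Z X S : Scheme.{u}} (f : X ⟶ S) [Flat f] [LocallyOfFinitePresentation f]
    (i : Z ⟶ X) (hi : RegImm.IsRelRegularImmersion RegImm.Kind.quasi f i) :
    RegImm.IsRegularImmersion RegImm.Kind.regular i :=
  isRegularImmersion_regular_of_flatAt f i (fun z => Flat.stalkMap f (i z)) hi

end Groth.Agent.RelQR16
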