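import Groth.Agent.RelQR16.Approx
import Groth.Agent.RelQR16.Stalk
import Groth.Agent.FlatLocus.Basic

/-! A relatively `H_1`-regular immersion: flatness of the ambient morphism along it. -/

set_option autoImplicit false
set_option linter.style.haveILetI false
set_option linter.unusedSectionVars false

universe u

open AlgebraicGeometry CategoryTheory CategoryTheory.Limits IsLocalRing

namespace Groth.Agent.RelQR16

theorem isRelRegularImmersion_quasi {Z X S : Scheme.{u}} {f : X ⟶ S} {i : Z ⟶ X}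
    (hi : RegImm.IsRelRegularImmersion RegImm.Kind.h1 f i) :
    RegImm.IsRelRegularImmersion RegImm.Kind.quasi f i := by
  refine ⟨⟨hi.1.1, fun z => ?_⟩, hi.2⟩
  obtain ⟨U, hzU, hci, rs, hrs, hker⟩ := hi.1.2 z
  exact ⟨U, hzU, hci, rs, CAlgOdd.H1Regular.isQuasiRegular _ hrs, hker⟩

/-- Flatness along an `H_1`-regular chart. -/
theorem flat_stalkMap_chart {Z X S : Scheme.{u}} (f : X ⟶ S) [LocallyOfFinitePresentation f] (i : Z ⟶ X)
    {V : S.Opens} (hV : IsAffineOpen V) {U : X.Opens} (hU : IsAffineOpen U) (e : U ≤ f ⁻¹ᵁ V) {rs : List Γ(X, U)}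
    {z : Z} (hzU : i z ∈ U) (hseq : CAlgX.IsH1Regular rs.get)
    (hker : RingHom.ker (i.app U).hom = Ideal.ofList rs)
    (hfl : ((Ideal.Quotient.mk (Ideal.ofList rs)).comp (f.appLE V U e).hom).Flat) :
    (f.stalkMap (i z)).hom.Flat := by
  obtain ⟨-, hm, -⟩ := stalk_facts f i hV hU e hzU (Or.inl ⟨rfl, hseq⟩ : SeqQ RegImm.Kind.h1 rs.get) hker hfl
  letI := (f.appLE V U e).hom.toAlgebra
  haveI : Algebra.FinitePresentation Γ(S, V) Γ(X, U) :=
    HasRingHomProperty.appLE @LocallyOfFinitePresentation f ‹_› ⟨V, hV⟩ ⟨U, hU⟩ e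
  letI := X.presheaf.algebra_section_stalk ⟨i z, hzU⟩
  haveI := hU.isLocalization_stalk ⟨i z, hzU⟩
  let q := (hU.primeIdealOf ⟨i z, hzU⟩).asIdeal
  have hq : Ideal.span (Set.range rs.get) ≤ q := by
    rw [Ideal.span_le]
    rintro _ ⟨j, rfl⟩
    exact (IsLocalization.AtPrime.to_map_mem_maximal_iff (X.presheaf.stalk (i z)) q (rs.get j)).1 (hm j)
  have hfl' : Module.Flat Γ(S, V) (Γ(X, U) ⧸ Ideal.span (Set.range rs.get)) := by
    rw [span_range_get]
    exact RingHom.flat_algebraMap_iff.1 hfl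
  haveI hA := flat_atPrime_of_h1 Γ(S, V) Γ(X, U) rs.get hfl' hseq q hq
  letI : Algebra Γ(S, V) (X.presheaf.stalk (i z)) :=
    ((X.presheaf.germ U (i z) hzU).hom.comp (f.appLE V U e).hom).toAlgebra
  haveI : IsScalarTower Γ(S, V) Γ(X, U) (X.presheaf.stalk (i z)) := IsScalarTower.of_algebraMap_eq fun _ => rfl
  haveI : Module.Flat Γ(S, V) (X.presheaf.stalk (i z)) :=
    Module.Flat.of_linearEquiv
      ((IsLocalization.algEquiv q.primeCompl (Localization.AtPrime q) (X.presheaf.stalk (i z))).restrictScalars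
        Γ(S, V)).symm.toLinearEquiv
  letI := S.presheaf.algebra_section_stalk ⟨f (i z), e hzU⟩
  haveI := hV.isLocalization_stalk ⟨f (i z), e hzU⟩
  letI := (f.stalkMap (i z)).hom.toAlgebra
  haveI : IsScalarTower Γ(S, V) (S.presheaf.stalk (f (i z))) (X.presheaf.stalk (i z)) := by
    refine IsScalarTower.of_algebraMap_eq fun w => ?_
    change X.presheaf.germ U (i z) hzU (f.appLE V U e w) =
      f.stalkMap (i z) (S.presheaf.germ V (f (i z)) (e hzU) w)
    rw [Scheme.Hom.germ_stalkMap_apply, Scheme.Hom.appLE, CommRingCat.comp_apply,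
      TopCat.Presheaf.germ_res_apply]
  exact RingHom.flat_algebraMap_iff.2 ((Module.flat_iff_of_isLocalization (S.presheaf.stalk (f (i z)))
    (hV.primeIdealOf ⟨f (i z), e hzU⟩).asIdeal.primeCompl _).mpr ‹_›)

theorem flat_stalkMap_h1 {Z X S : Scheme.{u}} (f : X ⟶ S) [LocallyOfFinitePresentation f] (i : Z ⟶ X)
    (hi : RegImm.IsRelRegularImmersion RegImm.Kind.h1 f i) (z : Z) : (f.stalkMap (i z)).hom.Flat := by
  obtain ⟨V, hV, U, hU, e, rs, hzU, -, hseq, hker, hfl⟩ := exists_chart f i (Or.inl rfl) hi z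
  rcases hseq with ⟨-, hseq⟩ | ⟨h, -⟩
  · exact flat_stalkMap_chart f i hV hU e hzU hseq hker hfl
  · exact absurd h (by decide)

theorem isRegularImmersion_regular_h1 {Z X S : Scheme.{u}} (f : X ⟶ S) [LocallyOfFinitePresentation f] (i : Z ⟶ X)
    (hi : RegImm.IsRelRegularImmersion RegImm.Kind.h1 f i) : RegImm.IsRegularImmersion RegImm.Kind.regular i :=
  isRegularImmersion_regular_of_flatAt f i (flat_stalkMap_h1 f i hi) (isRelRegularImmersion_quasi hi)

/-- A morphism flat at the points of a set is flat on an open neighbourhood of it. -/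
theorem exists_flat_open {X S : Scheme.{u}} (f : X ⟶ S) [LocallyOfFinitePresentation f] (T : Set X)
    (h : ∀ x ∈ T, (f.stalkMap x).hom.Flat) : ∃ U : X.Opens, T ⊆ (U : Set X) ∧ Flat (U.ι ≫ f) := by
  refine ⟨⟨{x | (f.stalkMap x).hom.Flat}, FlatLocus.isOpen_flat_locus f⟩, h, Flat.of_stalkMap _ fun x => ?_⟩
  rw [Scheme.Hom.stalkMap_comp]
  exact (FlatLocus.flat_comp_isIso _ _).2 x.2

end Groth.Agent.RelQR16
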