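import Groth.Agent.RelQR16.Algebra
import Groth.Agent.ModPairLib.Basic
import Mathlib.AlgebraicGeometry.Morphisms.Flat
import Mathlib.AlgebraicGeometry.Morphisms.ClosedImmersion

/-! Relative `H_1`-regular and quasi-regular immersions: charts, base change. -/

set_option autoImplicit false
set_option linter.style.haveILetI false
set_option linter.unusedSectionVars false

universe u

open AlgebraicGeometry CategoryTheory CategoryTheory.Limits

namespace Groth.Agent.RelQR16

theorem ker_of_isPushout {P B C T : CommRingCat.{u}} {a : P ⟶ B} {b : P ⟶ C} {c : B ⟶ T} {d : C ⟶ T}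
    (h : IsPushout a b c d) (ha : Function.Surjective a) :
    RingHom.ker d.hom = (RingHom.ker a.hom).map b.hom := by
  let J := (RingHom.ker a.hom).map b.hom
  refine le_antisymm (fun x hx => ?_) (Ideal.map_le_iff_le_comap.2 fun x hx => ?_)
  · let β : B →+* C ⧸ J := RingHom.liftOfSurjective a.hom ha
      ⟨(Ideal.Quotient.mk J).comp b.hom, fun y hy => by
        rw [RingHom.mem_ker, RingHom.comp_apply]
        exact Ideal.Quotient.eq_zero_iff_mem.2 (Ideal.mem_map_of_mem _ hy)⟩
    have hβ : β.comp a.hom = (Ideal.Quotient.mk J).comp b.hom :=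
      RingHom.liftOfRightInverse_comp _ _ _ _
    have w : a ≫ CommRingCat.ofHom β = b ≫ CommRingCat.ofHom (Ideal.Quotient.mk J) :=
      CommRingCat.hom_ext hβ
    have h2 := congrArg (fun f => f.hom x) (h.inr_desc _ _ w)
    refine Ideal.Quotient.eq_zero_iff_mem.1 (h2.symm.trans ?_)
    show (h.desc _ _ w).hom (d.hom x) = 0
    rw [(RingHom.mem_ker).1 hx, map_zero]
  · rw [Ideal.mem_comap, RingHom.mem_ker]
    have h2 := congrArg (fun f => f.hom x) h.w
    refine Eq.trans h2.symm ?_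
    show c.hom (a.hom x) = 0
    rw [(RingHom.mem_ker).1 hx, map_zero]

theorem restrict_of_le {Z P : Scheme.{u}} (i : Z ⟶ P) {W O : P.Opens} (hWO : W ≤ O)
    [IsClosedImmersion (i ∣_ O)] : IsClosedImmersion (i ∣_ W) := by
  have h1 : IsClosedImmersion ((i ∣_ O) ∣_ (O.ι ⁻¹ᵁ W)) := inferInstance
  have h2 := (MorphismProperty.arrow_mk_iso_iff @IsClosedImmersion (morphismRestrictRestrict i O (O.ι ⁻¹ᵁ W))).1 h1
  have he : O.ι ''ᵁ O.ι ⁻¹ᵁ W = W := by
    rw [Scheme.Hom.image_preimage_eq_opensRange_inf, Scheme.Opens.opensRange_ι]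
    exact inf_eq_right.2 hWO
  rwa [he] at h2

theorem surjective_app {Z P : Scheme.{u}} (i : Z ⟶ P) (W : P.Opens)
    (hW : IsAffineOpen W) [IsClosedImmersion (i ∣_ W)] :
    IsAffineOpen (i ⁻¹ᵁ W) ∧ Function.Surjective (i.app W) := by
  haveI : IsAffine W.toScheme := hW
  obtain ⟨h₁, h₂⟩ := IsClosedImmersion.isAffine_surjective_of_isAffine (i ∣_ W)
  refine ⟨h₁, ?_⟩
  rw [Scheme.Hom.appTop, morphismRestrict_app] at h₂
  have h3 : Function.Surjective (i.app (W.ι ''ᵁ ⊤)) := fun y => by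
    obtain ⟨a, ha⟩ := h₂ (Z.presheaf.map (eqToHom (image_morphismRestrict_preimage i W ⊤)).op y)
    exact ⟨a, (ConcreteCategory.bijective_of_isIso _).1 ha⟩
  have key : ∀ W' : P.Opens, W' = W → Function.Surjective (i.app W') → Function.Surjective (i.app W) := by
    rintro W' rfl h
    exact h
  exact key _ W.ι_image_top h3

theorem ker_basicOpen {Z P : Scheme.{u}} (i : Z ⟶ P) {W : P.Opens} (hW : IsAffineOpen W)
    [IsClosedImmersion (i ∣_ W)] (g : Γ(P, W)) :
    RingHom.ker (i.app (P.basicOpen g)).hom =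
      (RingHom.ker (i.app W).hom).map (P.presheaf.map (homOfLE (P.basicOpen_le g)).op).hom := by
  obtain ⟨hW', -⟩ := surjective_app i W hW
  haveI := hW.isLocalization_basicOpen g
  haveI := hW'.isLocalization_basicOpen (i.app W g)
  let L : Γ(P, P.basicOpen g) →+* Γ(Z, Z.basicOpen (i.app W g)) :=
    IsLocalization.Away.map _ _ (i.app W).hom g
  let r := Z.presheaf.map (eqToHom (Scheme.preimage_basicOpen i g)).op
  have hr : Function.Bijective r := ConcreteCategory.bijective_of_isIso _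
  have he : (i.app (P.basicOpen g)).hom = r.hom.comp L :=
    congrArg CommRingCat.Hom.hom (hW.app_basicOpen_eq_away_map i hW' g)
  rw [he, RingHom.ker_comp_of_injective _ hr.1]
  exact IsLocalization.ker_map _ (i.app W).hom (Submonoid.map_powers _ g)

/-- The quotient by the kernel of a closed chart is flat over the base. -/
theorem flat_quot_chart {Z X S : Scheme.{u}} (f : X ⟶ S) (i : Z ⟶ X) (hfl : Flat (i ≫ f)) {U : X.Opens}
    (hU : IsAffineOpen U) [IsClosedImmersion (i ∣_ U)] {V : S.Opens} (hV : IsAffineOpen V) (e : U ≤ f ⁻¹ᵁ V) :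
    ((Ideal.Quotient.mk (RingHom.ker (i.app U).hom)).comp (f.appLE V U e).hom).Flat := by
  obtain ⟨hU', hs⟩ := surjective_app i U hU
  let p := (i ≫ f).appLE V (i ⁻¹ᵁ U) (fun _ hy => e hy)
  have h1 : p.hom.Flat := HasRingHomProperty.appLE @Flat (i ≫ f) hfl ⟨V, hV⟩ ⟨_, hU'⟩ _
  have hp : p = f.appLE V U e ≫ i.app U := by
    show (i ≫ f).appLE V (i ⁻¹ᵁ U) _ = _
    rw [Scheme.Hom.app_eq_appLE, Scheme.Hom.appLE_comp_appLE]
  let E := RingHom.quotientKerEquivOfSurjective (f := (i.app U).hom) hs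
  have h' := RingHom.Flat.respectsIso.1 _ E.symm h1
  convert h' using 1
  ext y
  show _ = E.symm (p.hom y)
  rw [hp]
  exact (E.symm_apply_apply _).symm

/-- A chart of a relatively regular immersion. -/
theorem exists_chart {Z X S : Scheme.{u}} (f : X ⟶ S) (i : Z ⟶ X) {k : RegImm.Kind}
    (hk : k = .h1 ∨ k = .quasi) (hi : RegImm.IsRelRegularImmersion k f i) (z : Z) :
    ∃ (V : S.Opens) (_ : IsAffineOpen V) (U : X.Opens) (_ : IsAffineOpen U) (e : U ≤ f ⁻¹ᵁ V) (rs : List Γ(X, U)),
      i z ∈ U ∧ IsClosedImmersion (i ∣_ U) ∧ SeqQ k rs.get ∧ RingHom.ker (i.app U).hom = Ideal.ofList rs ∧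
      ((Ideal.Quotient.mk (Ideal.ofList rs)).comp (f.appLE V U e).hom).Flat := by
  obtain ⟨⟨U₀, hU₀⟩, hzU, hci, rs, hrs, hker⟩ := hi.1.2 z
  obtain ⟨V, hV, hzV, -⟩ := exists_isAffineOpen_mem_and_subset (X := S) (x := f (i z)) (U := ⊤) trivial
  obtain ⟨r, hr, hzr⟩ := hU₀.exists_basicOpen_le (V := f ⁻¹ᵁ V) ⟨i z, hzV⟩ hzU
  haveI : IsClosedImmersion (i ∣_ X.basicOpen r) := restrict_of_le i (X.basicOpen_le r)
  letI := (X.presheaf.map (homOfLE (X.basicOpen_le r)).op).hom.toAlgebra
  haveI : IsLocalization.Away r Γ(X, X.basicOpen r) := hU₀.isLocalization_basicOpen r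
  haveI : Module.Flat Γ(X, U₀) Γ(X, X.basicOpen r) := IsLocalization.flat _ (Submonoid.powers r)
  have hker' : RingHom.ker (i.app (X.basicOpen r)).hom =
      Ideal.ofList (rs.map (algebraMap Γ(X, U₀) Γ(X, X.basicOpen r))) := by
    rw [ker_basicOpen i hU₀ r, hker, ← Ideal.map_ofList]
    rfl
  refine ⟨V, hV, X.basicOpen r, hU₀.basicOpen r, hr, rs.map (algebraMap Γ(X, U₀) Γ(X, X.basicOpen r)), hzr, ‹_›,
    (seqQ_map_iff _ rs).2 (seqQ_flat (seqQ_of_seq hk rs hrs)), hker', ?_⟩
  have h := flat_quot_chart f i hi.2 (hU₀.basicOpen r) hV hr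
  rwa [hker'] at h

/-- Base change of relatively regular immersions. -/
theorem isRelRegularImmersion_baseChange {Z X S S' : Scheme.{u}} (f : X ⟶ S) (i : Z ⟶ X) {k : RegImm.Kind}
    (hk : k = .h1 ∨ k = .quasi) (hi : RegImm.IsRelRegularImmersion k f i) (g : S' ⟶ S) :
    RegImm.IsRelRegularImmersion k (pullback.snd f g) (pullback.snd i (pullback.fst f g)) := by
  have hsq : IsPullback (pullback.fst i (pullback.fst f g)) (pullback.snd i (pullback.fst f g)) i (pullback.fst f g) :=
    IsPullback.of_hasPullback _ _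
  refine ⟨⟨MorphismProperty.of_isPullback (P := @IsImmersion) hsq hi.1.1, fun z' => ?_⟩, ?_⟩
  · obtain ⟨V, hV, U, hU, e, rs, hzU, hci, hseq, hker, hfl⟩ :=
      exists_chart f i hk hi (pullback.fst i (pullback.fst f g) z')
    have hx1 : pullback.fst f g (pullback.snd i (pullback.fst f g) z') ∈ U := by
      rw [show pullback.fst f g (pullback.snd i (pullback.fst f g) z') = i (pullback.fst i (pullback.fst f g) z') from
        (congrArg (fun φ : pullback i (pullback.fst f g) ⟶ X => φ z') hsq.w).symm]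
      exact hzU
    obtain ⟨V', hV', hxV', hV'le⟩ := exists_isAffineOpen_mem_and_subset (X := S')
      (x := pullback.snd f g (pullback.snd i (pullback.fst f g) z')) (U := g ⁻¹ᵁ V) (by
        show g (pullback.snd f g _) ∈ V
        rw [← Scheme.Hom.comp_apply, ← pullback.condition, Scheme.Hom.comp_apply]
        exact e hx1)
    replace hV'le : V' ≤ g ⁻¹ᵁ V := hV'le
    let W := pullback.fst f g ⁻¹ᵁ U ⊓ pullback.snd f g ⁻¹ᵁ V'
    haveI := isIso_pushoutSection_of_isAffineOpen (IsPullback.of_hasPullback f g) hV'le e (UY := W) rfl hV hV' hU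
    have hW : IsAffineOpen W := by
      have : IsAffine _ := hV
      have : IsAffine _ := hV'
      have : IsAffine _ := hU
      exact .of_isIso (Scheme.Hom.isPullback_resLE (IsPullback.of_hasPullback f g) hV'le e (UY := W) rfl).isoPullback.hom
    have sqR := (isIso_pushoutSection_iff (IsPullback.of_hasPullback f g) hV'le e (UY := W) rfl).1 ‹_›
    letI : Algebra Γ(S, V) Γ(X, U) := (f.appLE V U e).hom.toAlgebra
    letI : Algebra Γ(S, V) Γ(S', V') := (g.appLE V V' hV'le).hom.toAlgebra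
    letI : Algebra Γ(X, U) Γ(pullback f g, W) := ((pullback.fst f g).appLE U W inf_le_left).hom.toAlgebra
    letI : Algebra Γ(S', V') Γ(pullback f g, W) := ((pullback.snd f g).appLE V' W inf_le_right).hom.toAlgebra
    letI : Algebra Γ(S, V) Γ(pullback f g, W) :=
      (f.appLE V U e ≫ (pullback.fst f g).appLE U W inf_le_left).hom.toAlgebra
    haveI : IsScalarTower Γ(S, V) Γ(X, U) Γ(pullback f g, W) := IsScalarTower.of_algebraMap_eq fun _ => rfl
    haveI : IsScalarTower Γ(S, V) Γ(S', V') Γ(pullback f g, W) := IsScalarTower.of_algebraMap_eq fun r =>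
      congrArg (fun k => k.hom r) sqR.w
    haveI : Algebra.IsPushout Γ(S, V) Γ(S', V') Γ(X, U) Γ(pullback f g, W) :=
      CommRingCat.isPushout_iff_isPushout.1 sqR.flip
    haveI : Module.Flat Γ(S, V) (Γ(X, U) ⧸ Ideal.span (Set.range rs.get)) := by
      rw [span_range_get]
      exact RingHom.flat_algebraMap_iff.1 hfl
    have hWle : W ≤ pullback.fst f g ⁻¹ᵁ U := inf_le_left
    obtain ⟨hUY, hUs⟩ := surjective_app i U hU
    have hUY' : pullback.snd i (pullback.fst f g) ⁻¹ᵁ W =
        pullback.fst i (pullback.fst f g) ⁻¹ᵁ (i ⁻¹ᵁ U) ⊓ pullback.snd i (pullback.fst f g) ⁻¹ᵁ W := by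
      refine (inf_eq_right.2 fun y hy => ?_).symm
      show i (pullback.fst i (pullback.fst f g) y) ∈ U
      rw [show i (pullback.fst i (pullback.fst f g) y) = pullback.fst f g (pullback.snd i (pullback.fst f g) y) from
        congrArg (fun φ : pullback i (pullback.fst f g) ⟶ X => φ y) hsq.w]
      exact hWle hy
    have hpo := (isIso_pushoutSection_iff hsq hWle le_rfl hUY').1
      (isIso_pushoutSection_of_isAffineOpen hsq hWle le_rfl hUY' hU hW hUY)
    have hs : Function.Surjective (i.appLE U (i ⁻¹ᵁ U) le_rfl) := by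
      rw [← Scheme.Hom.app_eq_appLE]
      exact hUs
    have hk' := ker_of_isPushout hpo hs
    rw [← Scheme.Hom.app_eq_appLE, ← Scheme.Hom.app_eq_appLE] at hk'
    refine ⟨⟨W, hW⟩, ⟨hx1, hxV'⟩, ?_, rs.map (algebraMap Γ(X, U) Γ(pullback f g, W)),
      seq_of_seqQ _ ((seqQ_map_iff _ rs).2 (seqQ_pushout Γ(S, V) Γ(X, U) Γ(S', V') Γ(pullback f g, W) hseq)), ?_⟩
    · have h2 := Scheme.Hom.isPullback_resLE hsq hWle le_rfl hUY'
      have h3 : IsClosedImmersion (i.resLE U (i ⁻¹ᵁ U) le_rfl) := by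
        rw [Scheme.Hom.resLE_eq_morphismRestrict]
        exact hci
      rw [← Scheme.Hom.resLE_eq_morphismRestrict]
      exact MorphismProperty.of_isPullback (P := @IsClosedImmersion) h2 h3
    · rw [← Ideal.map_ofList]
      exact hk'.trans (by rw [hker]; rfl)
  · exact MorphismProperty.of_isPullback (P := @Flat)
      (hsq.paste_vert (IsPullback.of_hasPullback f g)) hi.2

end Groth.Agent.RelQR16
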